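import Cfsg.Agent.H127.Six.Tori

/-!
# BLOCK 6: elements of prime power order of `PSU_n(v)` (helper127)

* `orbit` : the eigenvalues `ζ ^ ((-v) ^ i)`;
* `nu_le_of_order` : an element of order `r ^ (k + 1)`, `r ∤ v`, `r ∤ (n, v + 1)`: the order of `-v` modulo `r ^ (k + 1)` is at most `n`;
* `no_25_five` : `5 ∣ v + 1`, `25 ∤ v + 1`: no element of order `25` in `PSU_5(v)`;
* `order_unip` : an element of order `p ^ j`, `n ≤ p`: `j ≤ 1`.
-/

set_option autoImplicit false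
set_option linter.unusedSectionVars false

namespace Cfsg.Agent.H127.Six

open Matrix Cfsg Polynomial Cfsg.Agent.H127

section

variable {F : Type*} [Field F] [Fintype F] {v n : ℕ}

/-- an eigenvalue of order `r ^ (k + 1)` -/
theorem exists_root {ι : Type*} [Fintype ι] [DecidableEq ι] {M : Matrix ι ι F} {r k : ℕ} [hr : Fact r.Prime]
    {p : ℕ} [hp : Fact p.Prime] [CharP F p] (hrp : r ≠ p) (h1 : M ^ r ^ (k + 1) = 1) (h2 : M ^ r ^ k ≠ 1) :
    ∃ ζ : AlgebraicClosure F, IsPrimitiveRoot ζ (r ^ (k + 1)) ∧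
      (M.map (algebraMap F (AlgebraicClosure F))).charpoly.eval ζ = 0 := by
  set K := AlgebraicClosure F with hK
  set P : Matrix ι ι K := M.map (algebraMap F K) with hP
  have hPpow : ∀ m : ℕ, P ^ m = (M ^ m).map (algebraMap F K) := by
    intro m
    exact (map_pow (algebraMap F K).mapMatrix M m).symm
  have hinj : ∀ A : Matrix ι ι F, A.map (algebraMap F K) = 1 → A = 1 := by
    intro A hA
    have h3 : (algebraMap F K).mapMatrix A = (algebraMap F K).mapMatrix 1 := by rw [map_one]; exact hA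
    exact Matrix.map_injective (algebraMap F K).injective h3
  have h1' : P ^ r ^ (k + 1) = 1 := by
    rw [hPpow, h1]; exact map_one (algebraMap F K).mapMatrix
  have h2' : P ^ r ^ k ≠ 1 := fun h => h2 (hinj _ (by rw [← hPpow]; exact h))
  have hcyc := cyclotomic_prime_pow_mul_X_pow_sub_one K r k
  have h3 : aeval P (cyclotomic (r ^ (k + 1)) K) * (P ^ r ^ k - 1) = 0 := by
    have h4 := congrArg (aeval P) hcyc
    rw [map_mul, map_sub, map_sub, map_pow, map_pow, aeval_X, map_one, h1', sub_self] at h4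
    exact h4
  have h4 : ¬ IsUnit (aeval P (cyclotomic (r ^ (k + 1)) K)) := by
    rintro ⟨w, hw⟩
    rw [← hw] at h3
    have h5 := (Units.mul_right_eq_zero w).1 h3
    exact h2' (sub_eq_zero.1 h5)
  have h5 : (0 : K) ∈ spectrum K (aeval P (cyclotomic (r ^ (k + 1)) K)) := by
    rw [spectrum.zero_mem_iff]; exact h4
  have hpos : 0 < r ^ (k + 1) := pow_pos hr.out.pos _
  rw [spectrum.map_polynomial_aeval_of_degree_pos P _ (degree_cyclotomic_pos _ _ hpos)] at h5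
  obtain ⟨ζ, hζ, hζ0⟩ := h5
  have : CharP K p := charP_of_injective_algebraMap (algebraMap F K).injective p
  have hne : NeZero ((r ^ (k + 1) : ℕ) : K) := by
    refine ⟨?_⟩
    rw [Ne, CharP.cast_eq_zero_iff K p]
    intro hd
    exact hrp ((Nat.prime_dvd_prime_iff_eq hp.out hr.out).1 (hp.out.dvd_of_dvd_pow hd)).symm
  refine ⟨ζ, (isRoot_cyclotomic_iff).1 hζ0, ?_⟩
  rw [Matrix.eval_charpoly]
  by_contra hdet
  apply hζ
  rw [resolventSet]
  show IsUnit (algebraMap K (Matrix ι ι K) ζ - P)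
  rw [Matrix.isUnit_iff_isUnit_det]
  exact isUnit_iff_ne_zero.2 hdet

/-- **the orbit of an eigenvalue** -/
theorem orbit (hF : Fintype.card F = v ^ 2) {M : Matrix (Fin n) (Fin n) F} (hM : Mᵀ * M.map (fun x => x ^ v) = 1)
    {r k : ℕ} [hr : Fact r.Prime] (hrv : ¬ r ∣ v) (h1 : M ^ r ^ (k + 1) = 1) (h2 : M ^ r ^ k ≠ 1) :
    ∃ ζ : AlgebraicClosure F, IsPrimitiveRoot ζ (r ^ (k + 1)) ∧
      (∀ i : ℕ, (M.map (algebraMap F (AlgebraicClosure F))).charpoly.eval (ζ ^ ((-(v : ℤ)) ^ i)) = 0) ∧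
      Set.InjOn (fun i : ℕ => ζ ^ ((-(v : ℤ)) ^ i)) (Set.Iio (orderOf (-(v : ZMod (r ^ (k + 1)))))) := by
  obtain ⟨p, hp⟩ := CharP.exists F
  have hpp : Fact p.Prime := ⟨CharP.char_is_prime F p⟩
  obtain ⟨j, hj, hj1⟩ := UnitRoots.exists_eq_pow hF p
  have hrp : r ≠ p := by
    rintro rfl
    exact hrv (by rw [hj]; exact dvd_pow_self r (by omega))
  obtain ⟨ζ, hζ, hζ0⟩ := exists_root hrp h1 h2
  refine ⟨ζ, hζ, ?_, ?_⟩
  · intro i
    induction i with
    | zero => rw [pow_zero, zpow_one]; exact hζ0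
    | succ i ih =>
      have h3 := (UnitRoots.root_inv hF hM ih).2
      have h4 : ((ζ ^ ((-(v : ℤ)) ^ i)) ^ v)⁻¹ = ζ ^ ((-(v : ℤ)) ^ (i + 1)) := by
        rw [← zpow_natCast, ← _root_.zpow_mul, ← _root_.zpow_neg, pow_succ]
        congr 1
        ring
      rwa [h4] at h3
  · intro a ha b hb hab
    have hζ1 : ζ ≠ 0 := hζ.ne_zero (pow_pos hr.out.pos _).ne'
    have h3 : ζ ^ ((-(v : ℤ)) ^ a - (-(v : ℤ)) ^ b) = 1 := by
      rw [zpow_sub₀ hζ1]
      exact (div_eq_one_iff_eq (zpow_ne_zero _ hζ1)).2 hab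
    rw [hζ.zpow_eq_one_iff_dvd] at h3
    have h4 : (-(v : ZMod (r ^ (k + 1)))) ^ a = (-(v : ZMod (r ^ (k + 1)))) ^ b := by
      have h5 := (ZMod.intCast_zmod_eq_zero_iff_dvd _ _).2 h3
      push_cast at h5
      exact sub_eq_zero.1 h5
    exact pow_injOn_Iio_orderOf ha hb h4

/-- the number of roots -/
theorem order_le_of_orbit {K : Type*} [Field K] {P : Matrix (Fin n) (Fin n) K} {f : ℕ → K} {e : ℕ}
    (h : ∀ i, P.charpoly.eval (f i) = 0) (hinj : Set.InjOn f (Set.Iio e)) : e ≤ n := by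
  classical
  have h1 : ((Finset.range e).image f).card = e := by
    rw [Finset.card_image_of_injOn, Finset.card_range]
    intro a ha b hb hab
    exact hinj (by simpa using ha) (by simpa using hb) hab
  have h2 : (Finset.range e).image f ⊆ P.charpoly.roots.toFinset := by
    intro x hx
    obtain ⟨i, -, rfl⟩ := Finset.mem_image.1 hx
    rw [Multiset.mem_toFinset, Polynomial.mem_roots (Matrix.charpoly_monic P).ne_zero]
    exact h i
  have h3 := Finset.card_le_card h2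
  have h4 := Multiset.toFinset_card_le P.charpoly.roots
  have h5 := Polynomial.card_roots' P.charpoly
  have h6 : P.charpoly.natDegree = n := by rw [Matrix.charpoly_natDegree_eq_dim, Fintype.card_fin]
  omega

/-- a power of a lift of order prime to the centre -/
theorem exists_lift' (hF : Fintype.card F = v ^ 2) (hn : 3 ≤ n) (x : PSU n F v) {N : ℕ} (hx : x ^ N = 1) :
    ∃ g : SU n F v, QuotientGroup.mk g = x ∧ g ^ (N * Nat.gcd n (v + 1)) = 1 := by
  obtain ⟨g, rfl⟩ := QuotientGroup.mk_surjective x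
  refine ⟨g, rfl, ?_⟩
  rw [← QuotientGroup.mk_pow, QuotientGroup.eq_one_iff, LieClassical.SUBasic.mem_center_SU_iff hF hn] at hx
  obtain ⟨c, hcn, hcq, hc⟩ := hx
  have h1 : UnitRoots.mat g ^ N = c • 1 := by
    rw [← UnitRoots.mat_pow, hc]
    show Matrix.diagonal (fun _ => c) = _
    rw [Matrix.smul_one_eq_diagonal]
  have h2 : c ^ Nat.gcd n (v + 1) = 1 := by
    rw [← orderOf_dvd_iff_pow_eq_one]
    exact Nat.dvd_gcd (orderOf_dvd_of_pow_eq_one hcn) (orderOf_dvd_of_pow_eq_one hcq)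
  apply Subtype.ext
  apply Subtype.ext
  show UnitRoots.mat (g ^ (N * Nat.gcd n (v + 1))) = 1
  rw [UnitRoots.mat_pow, pow_mul, h1, _root_.smul_pow, h2, one_pow, one_smul]

/-- **Lemma A** -/
theorem nu_le_of_order (hF : Fintype.card F = v ^ 2) (hn : 3 ≤ n) {x : PSU n F v} {r k : ℕ} [hr : Fact r.Prime]
    (hrv : ¬ r ∣ v) (hd : ¬ r ∣ Nat.gcd n (v + 1)) (hx : orderOf x = r ^ (k + 1)) :
    orderOf (-(v : ZMod (r ^ (k + 1)))) ≤ n := by
  have hv := Cfsg.Agent.ClassicalGeometry.GUBasic.two_le hF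
  obtain ⟨g, hg, hg1⟩ := exists_lift' hF hn x (N := r ^ (k + 1)) (by rw [← hx]; exact pow_orderOf_eq_one x)
  set D := Nat.gcd n (v + 1) with hD
  set g' := g ^ D with hg'
  have h1 : UnitRoots.mat g' ^ r ^ (k + 1) = 1 := by
    rw [← UnitRoots.mat_pow, hg', ← pow_mul, mul_comm, hg1]; rfl
  have h2 : UnitRoots.mat g' ^ r ^ k ≠ 1 := by
    intro h3
    rw [← UnitRoots.mat_pow] at h3
    have h4 : g' ^ r ^ k = 1 := Subtype.ext (Subtype.ext h3)
    have h5 : x ^ (D * r ^ k) = 1 := by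
      rw [← hg, ← QuotientGroup.mk_pow, pow_mul, h4, QuotientGroup.mk_one]
    have h6 := orderOf_dvd_of_pow_eq_one h5
    rw [hx, pow_succ, mul_comm D] at h6
    exact hd (Nat.dvd_of_mul_dvd_mul_left (pow_pos hr.out.pos _) h6)
  obtain ⟨ζ, hζ, h3, h4⟩ := orbit hF (UnitRoots.mat_unit g' (by omega)) hrv h1 h2
  exact order_le_of_orbit h3 h4

/-- residues -/
theorem res_125 (h5 : 5 ∣ v + 1) (h25 : ¬ 25 ∣ v + 1) : 5 < orderOf (-(v : ZMod 125)) ∧ orderOf (-(v : ZMod 25)) = 5 := by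
  have key : ∀ a : ZMod 125, a.val % 5 = 4 → a.val % 25 ≠ 24 →
      (-a) ^ 1 ≠ 1 ∧ (-a) ^ 2 ≠ 1 ∧ (-a) ^ 3 ≠ 1 ∧ (-a) ^ 4 ≠ 1 ∧ (-a) ^ 5 ≠ 1 ∧ (-a) ^ 25 = 1 := by decide +kernel
  have key2 : ∀ a : ZMod 25, a.val % 5 = 4 → a.val ≠ 24 → (-a) ^ 5 = 1 ∧ (-a) ≠ 1 := by decide +kernel
  have e1 : (v : ZMod 125).val = v % 125 := ZMod.val_natCast _ _
  have e2 : (v : ZMod 25).val = v % 25 := ZMod.val_natCast _ _
  constructor
  · obtain ⟨k1, k2, k3, k4, k5, k6⟩ := key (v : ZMod 125) (by rw [e1]; omega) (by rw [e1]; omega)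
    have hpos : 0 < orderOf (-(v : ZMod 125)) := orderOf_pos_iff.2 (isOfFinOrder_iff_pow_eq_one.2 ⟨25, by norm_num, k6⟩)
    by_contra hcon
    have h1 := pow_orderOf_eq_one (-(v : ZMod 125))
    obtain h | h | h | h | h : orderOf (-(v : ZMod 125)) = 1 ∨ orderOf (-(v : ZMod 125)) = 2 ∨
        orderOf (-(v : ZMod 125)) = 3 ∨ orderOf (-(v : ZMod 125)) = 4 ∨ orderOf (-(v : ZMod 125)) = 5 := by omega
    all_goals rw [h] at h1
    exacts [k1 h1, k2 h1, k3 h1, k4 h1, k5 h1]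
  · obtain ⟨k1, k2⟩ := key2 (v : ZMod 25) (by rw [e2]; omega) (by rw [e2]; omega)
    have : Fact (Nat.Prime 5) := ⟨Nat.prime_five⟩
    exact orderOf_eq_prime k1 k2

/-- **Lemma B** -/
theorem no_25_five (hF : Fintype.card F = v ^ 2) (h5 : 5 ∣ v + 1) (h25 : ¬ 25 ∣ v + 1) (x : PSU 5 F v) :
    orderOf x ≠ 25 := by
  intro hx
  have hv := Cfsg.Agent.ClassicalGeometry.GUBasic.two_le hF
  have : Fact (Nat.Prime 5) := ⟨Nat.prime_five⟩
  obtain ⟨g, hg, hg1⟩ := exists_lift' hF (by norm_num) x (N := 25) (by rw [← hx]; exact pow_orderOf_eq_one x)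
  obtain ⟨o1, o2⟩ := res_125 h5 h25
  have h5v : ¬ 5 ∣ v := by omega
  have hD : Nat.gcd 5 (v + 1) = 5 := Nat.gcd_eq_left h5
  rw [hD] at hg1
  set M := UnitRoots.mat g with hM
  have hMu := UnitRoots.mat_unit g (by omega : v ≠ 0)
  have h1 : M ^ 5 ^ (2 + 1) = 1 := by
    rw [hM, ← UnitRoots.mat_pow, show 5 ^ (2 + 1) = 25 * 5 by norm_num, hg1]; rfl
  have h2 : M ^ 5 ^ (1 + 1) = 1 := by
    by_contra h2
    obtain ⟨ζ, hζ, h3, h4⟩ := orbit hF hMu (k := 2) h5v h1 h2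
    have h5' := order_le_of_orbit h3 h4
    have h6 : orderOf (-(v : ZMod (5 ^ (2 + 1)))) = orderOf (-(v : ZMod 125)) := rfl
    rw [h6] at h5'
    omega
  have hnot : ¬ ∃ c : F, M ^ 5 = c • 1 := by
    intro h3
    have h4 := UnitRoots.psu_pow_eq_one g h3
    rw [hg] at h4
    have h6 := orderOf_dvd_of_pow_eq_one h4
    rw [hx] at h6
    omega
  have h3 : M ^ 5 ^ 1 ≠ 1 := by
    intro h3
    apply hnot
    exact ⟨1, by rw [one_smul]; simpa using h3⟩
  obtain ⟨ζ, hζ, h4, h6⟩ := orbit hF hMu (k := 1) h5v h2 h3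
  have h7 : orderOf (-(v : ZMod (5 ^ (1 + 1)))) = 5 := o2
  rw [h7] at h6
  apply hnot
  let K := AlgebraicClosure F
  let P : Matrix (Fin 5) (Fin 5) K := M.map (algebraMap F K)
  change IsPrimitiveRoot (ζ : K) _ at hζ
  have hpow : ∀ i : ℕ, (ζ ^ ((-(v : ℤ)) ^ i)) ^ 5 = ζ ^ 5 := by
    intro i
    have hζ1 : ζ ≠ 0 := hζ.ne_zero (by norm_num)
    have e1 : (ζ ^ ((-(v : ℤ)) ^ i)) ^ 5 = ζ ^ ((-(v : ℤ)) ^ i * 5) := by rw [_root_.zpow_mul]; norm_cast
    have e2 : ζ ^ 5 = ζ ^ (5 : ℤ) := by norm_cast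
    rw [e1, e2, ← div_eq_one_iff_eq (zpow_ne_zero _ hζ1), ← zpow_sub₀ hζ1, hζ.zpow_eq_one_iff_dvd]
    have e3 : (5 : ℤ) ∣ (-(v : ℤ)) ^ i - 1 := by
      have e4 : (-(v : ℤ)) - 1 ∣ (-(v : ℤ)) ^ i - 1 := by
        have := sub_dvd_pow_sub_pow (-(v : ℤ)) 1 i
        rwa [one_pow] at this
      refine Dvd.dvd.trans ?_ e4
      have e5 : (5 : ℤ) ∣ ((v + 1 : ℕ) : ℤ) := Int.natCast_dvd_natCast.2 h5
      push_cast at e5
      have e6 : (-(v : ℤ)) - 1 = -(v + 1) := by ring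
      rw [e6]
      exact (dvd_neg).2 e5
    obtain ⟨w, hw⟩ := e3
    refine ⟨w, ?_⟩
    push_cast
    linear_combination 5 * hw
  have hchar : P.charpoly = X ^ 5 - C (ζ ^ 5) := by
    have hdeg : (P.charpoly - (X ^ 5 - C (ζ ^ 5))).natDegree < 5 := by
      have d1 : P.charpoly.natDegree = 5 := by rw [Matrix.charpoly_natDegree_eq_dim, Fintype.card_fin]
      have d2 : (X ^ 5 - C (ζ ^ 5) : K[X]).natDegree = 5 := natDegree_X_pow_sub_C
      have hm1 := Matrix.charpoly_monic P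
      have hm2 : (X ^ 5 - C (ζ ^ 5) : K[X]).Monic := monic_X_pow_sub_C _ (by norm_num)
      have h8 := Polynomial.degree_sub_lt_left (p := P.charpoly) (q := X ^ 5 - C (ζ ^ 5))
        (by rw [degree_eq_natDegree hm1.ne_zero, degree_eq_natDegree hm2.ne_zero, d1, d2]) hm1.ne_zero
        (by rw [hm1.leadingCoeff, hm2.leadingCoeff])
      rw [degree_eq_natDegree hm1.ne_zero, d1] at h8
      by_cases h9 : P.charpoly - (X ^ 5 - C (ζ ^ 5)) = 0
      · rw [h9, natDegree_zero]; norm_num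
      · exact (natDegree_lt_iff_degree_lt h9).2 h8
    classical
    have h8 : ((Finset.range 5).image (fun i : ℕ => ζ ^ ((-(v : ℤ)) ^ i))).card = 5 := by
      rw [Finset.card_image_of_injOn, Finset.card_range]
      intro a ha b hb hab
      exact h6 (by simpa using ha) (by simpa using hb) hab
    have h9 := Polynomial.eq_zero_of_natDegree_lt_card_of_eval_eq_zero' (P.charpoly - (X ^ 5 - C (ζ ^ 5)))
      ((Finset.range 5).image (fun i : ℕ => ζ ^ ((-(v : ℤ)) ^ i))) (by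
        intro y hy
        obtain ⟨i, -, rfl⟩ := Finset.mem_image.1 hy
        rw [eval_sub, h4 i, eval_sub, eval_pow, eval_X, eval_C, hpow i, sub_self, sub_zero])
      (by rw [h8]; exact hdeg)
    exact sub_eq_zero.1 h9
  have hCH := Matrix.aeval_self_charpoly P
  rw [hchar, map_sub, map_pow, aeval_X, aeval_C, sub_eq_zero] at hCH
  have h10 : (M ^ 5).map (algebraMap F K) = (ζ ^ 5) • 1 := by
    have e1 : (M ^ 5).map (algebraMap F K) = P ^ 5 := map_pow (algebraMap F K).mapMatrix M 5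
    rw [e1, hCH, Algebra.algebraMap_eq_smul_one]
  exact UnitRoots.scalar_descend h10

/-- **the exponent of the unipotent elements** -/
theorem order_unip (hF : Fintype.card F = v ^ 2) (hn : 3 ≤ n) {p : ℕ} [hp : Fact p.Prime] [CharP F p] (hnp : n ≤ p)
    {x : PSU n F v} {j : ℕ} (hx : orderOf x = p ^ j) : j ≤ 1 := by
  have hv := Cfsg.Agent.ClassicalGeometry.GUBasic.two_le hF
  obtain ⟨i, hi, hi1⟩ := UnitRoots.exists_eq_pow hF p
  have hpv : p ∣ v := by rw [hi]; exact dvd_pow_self p (by omega)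
  obtain ⟨g, hg, hg1⟩ := exists_lift' hF hn x (N := p ^ j) (by rw [← hx]; exact pow_orderOf_eq_one x)
  set D := Nat.gcd n (v + 1) with hD
  have hpD : Nat.Coprime (p ^ j) D := by
    apply Nat.Coprime.pow_left
    rw [Nat.Prime.coprime_iff_not_dvd hp.out]
    intro h1
    have h2 := Nat.dvd_sub (h1.trans (Nat.gcd_dvd_right n (v + 1))) hpv
    rw [show v + 1 - v = 1 by omega] at h2
    exact hp.out.one_lt.ne' (Nat.dvd_one.1 h2)
  set g' := g ^ D with hg'
  set M := UnitRoots.mat g' with hM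
  have h1 : M ^ p ^ j = 1 := by
    rw [hM, ← UnitRoots.mat_pow, hg', ← pow_mul, mul_comm, hg1]; rfl
  have : Nonempty (Fin n) := ⟨⟨0, by omega⟩⟩
  have h2 : IsNilpotent (M - 1) := by
    refine ⟨p ^ j, ?_⟩
    have := sub_pow_char_pow_of_commute (R := Matrix (Fin n) (Fin n) F) (p := p) (n := j) (Commute.one_right M)
    rw [this, one_pow, h1, sub_self]
  have h3 := Matrix.isNilpotent_charpoly_sub_pow_of_isNilpotent h2
  have h4 : (M - 1).charpoly = X ^ Fintype.card (Fin n) := sub_eq_zero.1 h3.eq_zero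
  have h5 := Matrix.aeval_self_charpoly (M - 1)
  rw [h4, map_pow, aeval_X, Fintype.card_fin] at h5
  have h6 : (M - 1) ^ p = 0 := by
    obtain ⟨k, hk⟩ := Nat.exists_eq_add_of_le hnp
    rw [hk, pow_add, h5, zero_mul]
  have h7 : M ^ p = 1 := by
    have := sub_pow_char_pow_of_commute (R := Matrix (Fin n) (Fin n) F) (p := p) (n := 1) (Commute.one_right M)
    rw [one_pow, pow_one, h6] at this
    exact (sub_eq_zero.1 this.symm)
  have h8 : x ^ (D * p) = 1 := by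
    rw [← hg, ← QuotientGroup.mk_pow, pow_mul]
    have h9 : g' ^ p = 1 := by
      apply Subtype.ext
      apply Subtype.ext
      show UnitRoots.mat (g' ^ p) = 1
      rw [UnitRoots.mat_pow]; exact h7
    rw [← hg', h9, QuotientGroup.mk_one]
  have h9 := orderOf_dvd_of_pow_eq_one h8
  rw [hx] at h9
  have h10 := hpD.dvd_of_dvd_mul_left h9
  by_contra hcon
  have h11 : p ^ 2 ∣ p := (pow_dvd_pow p (by omega : 2 ≤ j)).trans h10
  have h12 := Nat.le_of_dvd hp.out.pos h11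
  have := hp.out.two_le
  nlinarith

end

end Cfsg.Agent.H127.Six
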