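import Cfsg.Agent.H127.Six.Tori
import Cfsg.Agent.LieClassical.HermSiegel

/-!
# BLOCK 6: elements of prime order acting on `p`-subgroups of `PSU_n(v)` (helper127)

* `no_p1` : `NoFrob c q (PSU n F v)`, `r ∣ ap q * am q`, `r ∤ v`: `n - 2 < nu v r`.
-/

set_option autoImplicit false
set_option linter.unusedSectionVars false

namespace Cfsg.Agent.H127.Six

open Matrix Cfsg Cfsg.Agent.H72.AdjPSU Cfsg.Agent.H103.UniBlock Cfsg.Agent.H186
  Cfsg.Agent.H127 Cfsg.Agent.H376.Six
open Cfsg.Agent.LieClassical.HermSiegel (act siegel IsSiegel siegelMat siegelMat_mulVec)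
open Cfsg.Agent.LieClassical.HermBasic (herm_def exists_trace_eq exists_norm_eq)

universe w

/-- how `NoFrob` is contradicted -/
theorem kill {c q : ℕ} {S : Type w} [Group S] (h : NoFrob c q S) {Γ : Type*} [Group Γ] (ψ : Γ →* S) {p r : ℕ}
    (hp : p.Prime) (hpc : p ≠ c) (hr : r.Prime) (hrd : r ∣ ap q * am q) (hpr : p ≠ r) (N : Subgroup Γ)
    (hN : IsPGroup p N) (y : Γ) (hy : orderOf (ψ y) = r) (hyN : ∀ g ∈ N, y * g * y⁻¹ ∈ N) (t : Γ) (ht : t ∈ N)
    (hne : ψ (y * t) ≠ ψ (t * y)) : False := by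
  apply hne
  rw [map_mul, map_mul]
  refine h r hr hrd p hp hpc hpr (N.map ψ) (hN.map ψ) (ψ y) hy ?_ (ψ t) ⟨t, ht, rfl⟩
  rintro _ ⟨g, hg, rfl⟩
  exact ⟨y * g * y⁻¹, hyN g hg, by simp⟩

section

variable {F : Type*} [Field F] [Fintype F] {v n : ℕ}

/-- equality in `PSU` -/
theorem scalar_of_mk_eq (hF : Fintype.card F = v ^ 2) (hn : 3 ≤ n) {g h : SU n F v}
    (e : (QuotientGroup.mk g : PSU n F v) = QuotientGroup.mk h) : ∃ c : F, UnitRoots.mat h = c • UnitRoots.mat g := by
  have h1 : (QuotientGroup.mk (g⁻¹ * h) : PSU n F v) ^ 1 = 1 := by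
    rw [pow_one, QuotientGroup.mk_mul, QuotientGroup.mk_inv, e, inv_mul_cancel]
  obtain ⟨c, hc⟩ := UnitRoots.scalar_of_psu_pow hF hn (g⁻¹ * h) h1
  rw [pow_one] at hc
  refine ⟨c, ?_⟩
  calc UnitRoots.mat h = UnitRoots.mat (g * (g⁻¹ * h)) := by rw [mul_inv_cancel_left]
    _ = UnitRoots.mat g * UnitRoots.mat (g⁻¹ * h) := rfl
    _ = c • UnitRoots.mat g := by rw [hc, Matrix.mul_smul, mul_one]

/-- elements of `SU` of given order -/
theorem exists_su_order (hF : Fintype.card F = v ^ 2) {m a r : ℕ} (h : HasBlock F v a r) (ham : a ≤ m) :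
    ∃ g : SU m F v, orderOf g = r := by
  obtain ⟨A, hA, hAd, hA1, hA2⟩ := h
  have hq := Cfsg.Agent.ClassicalGeometry.GUBasic.two_le hF
  obtain ⟨c, hc⟩ : ∃ c, m = a + c := ⟨m - a, by omega⟩
  let e : Fin m ≃ Fin a ⊕ Fin c := (finCongr hc).trans finSumFinEquiv.symm
  set M : Matrix (Fin m) (Fin m) F := (fromBlocks A 0 0 (1 : Matrix (Fin c) (Fin c) F)).submatrix e e with hM
  have hU : Uni v M := uni_submatrix e (uni_fromBlocks (by omega) hA (uni_one hF))
  have hdet : M.det = 1 := by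
    rw [hM, Matrix.det_submatrix_equiv_self, Matrix.det_fromBlocks_zero₂₁, hAd, Matrix.det_one, one_mul]
  have hpow : ∀ k : ℕ, M ^ k = (fromBlocks (A ^ k) 0 0 (1 : Matrix (Fin c) (Fin c) F)).submatrix e e := by
    intro k
    induction k with
    | zero => rw [pow_zero, pow_zero, fromBlocks_one, Matrix.submatrix_one_equiv]
    | succ k ih =>
      rw [pow_succ, ih, hM, Matrix.submatrix_mul_equiv, fromBlocks_multiply, pow_succ]
      simp
  have hk : ∀ k : ℕ, M ^ k = 1 ↔ A ^ k = 1 := by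
    intro k
    rw [hpow]
    constructor
    · intro h2
      have h4 := congrArg (fun M => M.submatrix e.symm e.symm) h2
      simp only [Matrix.submatrix_submatrix, Matrix.submatrix_one_equiv, Equiv.self_comp_symm,
        Matrix.submatrix_id_id] at h4
      rw [← fromBlocks_one, fromBlocks_inj] at h4
      exact h4.1
    · intro h2
      rw [h2, fromBlocks_one, Matrix.submatrix_one_equiv]
  obtain ⟨x, hx, h1⟩ := hU
  obtain ⟨g, y, hy, hyg⟩ := UnitSinger.exists_elt hF M x hx hdet h1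
  have hconj : ∀ k : ℕ, y * M ^ k = UnitRoots.mat g ^ k * y := by
    intro k
    induction k with
    | zero => simp
    | succ k ih => rw [pow_succ, ← mul_assoc, ih, mul_assoc, hyg, ← mul_assoc, ← pow_succ]
  have hg : ∀ k : ℕ, g ^ k = 1 ↔ M ^ k = 1 := by
    intro k
    constructor
    · intro h2
      have h3 : UnitRoots.mat g ^ k = 1 := by rw [← UnitRoots.mat_pow, h2]; rfl
      have h4 := hconj k
      rw [h3, one_mul] at h4
      exact hy.mul_left_cancel (h4.trans (mul_one y).symm)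
    · intro h2
      have h4 := hconj k
      rw [h2, mul_one] at h4
      have h5 : UnitRoots.mat g ^ k = 1 := hy.mul_right_cancel (h4.symm.trans (one_mul y).symm)
      rw [← UnitRoots.mat_pow] at h5
      exact Subtype.ext (Subtype.ext h5)
  refine ⟨g, Nat.dvd_antisymm (orderOf_dvd_of_pow_eq_one ((hg r).2 ((hk r).2 hA1))) ?_⟩
  exact hA2 _ ((hk _).1 ((hg _).1 (pow_orderOf_eq_one g)))

/-- a matrix with `st M * M = 1` and determinant one as an element of `SU` -/
theorem exists_mkSU (hF : Fintype.card F = v ^ 2) (M : Matrix (Fin n) (Fin n) F) (h : st v M * M = 1) (hd : M.det = 1) :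
    ∃ g : SU n F v, UnitRoots.mat g = M := by
  let B' : GL (Fin n) F := ⟨M, st v M, mul_eq_one_comm.1 h, h⟩
  have hB' : B' ∈ Cfsg.GU n F v := (mem_GU_iff_st hF B').2 h
  let B'' : Matrix.SpecialLinearGroup (Fin n) F := ⟨M, hd⟩
  have hB'' : B'' ∈ Cfsg.SU n F v :=
    (Cfsg.Agent.LieClassical.SUBasic.mem_SU_iff B'').2 ((Cfsg.Agent.ClassicalGeometry.GUBasic.mem_GU_iff B').1 hB')
  exact ⟨⟨B'', hB''⟩, rfl⟩

theorem st_mat (hF : Fintype.card F = v ^ 2) (g : SU n F v) : st v (UnitRoots.mat g) * UnitRoots.mat g = 1 := by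
  let B' : GL (Fin n) F := Matrix.GeneralLinearGroup.mkOfDetNeZero (UnitRoots.mat g) (by
    rw [UnitRoots.mat_det]; exact one_ne_zero)
  have h1 : B' ∈ Cfsg.GU n F v := (Cfsg.Agent.ClassicalGeometry.GUBasic.mem_GU_iff B').2
    ((Cfsg.Agent.LieClassical.SUBasic.mem_SU_iff _).1 g.2)
  exact (mem_GU_iff_st hF B').1 h1

/-- the group of the Siegel elements with a given isotropic vector -/
def sieg (hF : Fintype.card F = v ^ 2) (u : Fin n → F) (hu : hermForm n F v u u = 0) : Subgroup (SU n F v) where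
  carrier := {g | ∃ (x : Fin n → F) (μ : F) (h : IsSiegel v u x μ), g = siegel hF u x μ h}
  mul_mem' := by
    rintro _ _ ⟨x, μ, h, rfl⟩ ⟨x', μ', h', rfl⟩
    exact ⟨_, _, _, Cfsg.Agent.LieClassical.HermSiegel.siegel_mul hF h h'⟩
  one_mem' := ⟨0, 0, IsSiegel.zero hF hu, (Cfsg.Agent.LieClassical.HermSiegel.siegel_zero hF _).symm⟩
  inv_mem' := by
    rintro _ ⟨x, μ, h, rfl⟩
    exact ⟨_, _, _, Cfsg.Agent.LieClassical.HermSiegel.siegel_inv hF h⟩

theorem isPGroup_sieg (hF : Fintype.card F = v ^ 2) {p : ℕ} [hp : Fact p.Prime] [CharP F p] (u : Fin n → F)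
    (hu : hermForm n F v u u = 0) : IsPGroup p (sieg hF u hu) := by
  rintro ⟨g, x, μ, h, rfl⟩
  refine ⟨2, Subtype.ext ?_⟩
  apply Subtype.ext
  apply Subtype.ext
  rcases isEmpty_or_nonempty (Fin n) with hemp | hne
  · ext i; exact hemp.elim i
  show UnitRoots.mat ((siegel hF u x μ h) ^ p ^ 2) = 1
  rw [UnitRoots.mat_pow]
  set M := UnitRoots.mat (siegel hF u x μ h) with hM
  have hM' : M = siegelMat v u x μ := rfl
  have key : ∀ z : Fin n → F, (siegelMat v u x μ - 1) *ᵥ z =
      hermForm n F v z u • x + (μ * hermForm n F v z u - hermForm n F v z x) • u := by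
    intro z
    rw [Matrix.sub_mulVec, siegelMat_mulVec, Matrix.one_mulVec]
    abel
  have h3 : (M - 1) ^ 3 = 0 := by
    rw [hM', pow_succ, pow_two]
    apply Matrix.ext_of_mulVec_single
    intro i
    set e : Fin n → F := Pi.single i 1
    rw [Matrix.zero_mulVec, ← Matrix.mulVec_mulVec, ← Matrix.mulVec_mulVec, key e, key, key]
    simp only [Cfsg.Agent.LieClassical.HermBasic.herm_add_left, Cfsg.Agent.LieClassical.HermBasic.herm_smul_left,
      h.iso, h.orth, h.orth' hF, mul_zero, add_zero, zero_sub, zero_smul, zero_add, sub_self]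
  have h4 : (M - 1) ^ p ^ 2 = M ^ p ^ 2 - 1 := by
    have := sub_pow_char_pow_of_commute (R := Matrix (Fin n) (Fin n) F) (p := p) (n := 2) (Commute.one_right M)
    rw [this, one_pow]
  have h5 : (M - 1) ^ p ^ 2 = 0 := by
    have h2 := hp.out.two_le
    obtain ⟨k, hk⟩ := Nat.exists_eq_add_of_le (show 3 ≤ p ^ 2 by nlinarith)
    rw [hk, pow_add, h3, zero_mul]
  rw [h5] at h4
  exact sub_eq_zero.1 h4.symm

/-- **the radical of the stabiliser of an isotropic point** -/
theorem no_p1 (hF : Fintype.card F = v ^ 2) (hn : 4 ≤ n) {p : ℕ} [hp : Fact p.Prime] [CharP F p] {c q : ℕ}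
    (h : NoFrob c q (PSU n F v)) (hpc : p ≠ c) {r : ℕ} (hr : r.Prime) (hrd : r ∣ ap q * am q) (hrv : ¬ r ∣ v) :
    n - 2 < nu v r := by
  by_contra hcon
  rw [not_lt] at hcon
  have hv := Cfsg.Agent.ClassicalGeometry.GUBasic.two_le hF
  obtain ⟨j, hj, hj1⟩ := UnitRoots.exists_eq_pow hF p
  have hpr : p ≠ r := by
    rintro rfl
    exact hrv (by rw [hj]; exact dvd_pow_self p (by omega))
  obtain ⟨m, rfl⟩ : ∃ m, n = m + 2 := ⟨n - 2, by omega⟩
  have hw : wU v r ≤ m := by
    rw [wU]
    split_ifs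
    · omega
    · omega
  obtain ⟨g, hg⟩ := exists_su_order (m := m) hF (hasBlock_wU hF hr) hw
  let e : Fin (m + 2) ≃ Fin m ⊕ Fin 2 := finSumFinEquiv.symm
  -- vectors
  let vec : (Fin m → F) → (Fin 2 → F) → Fin (m + 2) → F := fun a b i => Sum.elim a b (e i)
  have hherm : ∀ a b a' b', hermForm (m + 2) F v (vec a b) (vec a' b') =
      hermForm m F v a a' + hermForm 2 F v b b' := by
    intro a b a' b'
    rw [herm_def, herm_def, herm_def]
    rw [← Equiv.sum_comp e.symm, Fintype.sum_sum_type]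
    simp [vec]
  -- the element
  set M : Matrix (Fin (m + 2)) (Fin (m + 2)) F :=
    (fromBlocks (UnitRoots.mat g) 0 0 (1 : Matrix (Fin 2) (Fin 2) F)).submatrix e e with hM
  have hMpow : ∀ k : ℕ, M ^ k = (fromBlocks (UnitRoots.mat g ^ k) 0 0 (1 : Matrix (Fin 2) (Fin 2) F)).submatrix e e := by
    intro k
    induction k with
    | zero => rw [pow_zero, pow_zero, fromBlocks_one, Matrix.submatrix_one_equiv]
    | succ k ih =>
      rw [pow_succ, ih, hM, Matrix.submatrix_mul_equiv, fromBlocks_multiply, pow_succ]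
      simp
  obtain ⟨y, hy⟩ := exists_mkSU hF M (by
    have h1 : st v M = (st v (fromBlocks (UnitRoots.mat g) 0 0 (1 : Matrix (Fin 2) (Fin 2) F))).submatrix e e := rfl
    rw [h1, hM, Matrix.submatrix_mul_equiv, st_fromBlocks (by omega), fromBlocks_multiply, st_mat hF, st_one hF]
    simp) (by
    rw [hM, Matrix.det_submatrix_equiv_self, Matrix.det_fromBlocks_zero₂₁, UnitRoots.mat_det, Matrix.det_one, one_mul])
  have hact : ∀ a b, act y (vec a b) = vec (UnitRoots.mat g *ᵥ a) b := by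
    intro a b
    show UnitRoots.mat y *ᵥ vec a b = _
    rw [hy, hM]
    funext i
    rw [Matrix.mulVec, dotProduct, ← Equiv.sum_comp e.symm, Fintype.sum_sum_type]
    obtain ⟨i, rfl⟩ := e.symm.surjective i
    rcases i with i | i
    · simp [vec, Matrix.mulVec, dotProduct]
    · simp [vec, Matrix.one_apply]
  -- the isotropic vector
  obtain ⟨α, hα⟩ := exists_norm_eq hF (c := (-1 : F)) (by
    rw [Cfsg.Agent.LieClassical.HermBasic.neg_pow_q hF, one_pow])
  set u : Fin (m + 2) → F := vec 0 ![1, α] with hu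
  have huu : hermForm (m + 2) F v u u = 0 := by
    rw [hu, hherm, herm_def, herm_def, Fin.sum_univ_two]
    simp [hα]
  have hyu : act y u = u := by rw [hu, hact, Matrix.mulVec_zero]
  -- the moved vector
  obtain ⟨a, ha⟩ : ∃ a, UnitRoots.mat g *ᵥ a ≠ a := by
    by_contra hcon2
    push Not at hcon2
    have h1 : UnitRoots.mat g = 1 := by
      apply Matrix.ext_of_mulVec_single
      intro i
      rw [hcon2, Matrix.one_mulVec]
    have h2 : g = 1 := Subtype.ext (Subtype.ext h1)
    rw [h2, orderOf_one] at hg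
    exact hr.one_lt.ne hg
  obtain ⟨μ, hμ⟩ := exists_trace_eq hF (c := -hermForm m F v a a) (by
    rw [Cfsg.Agent.LieClassical.HermBasic.neg_pow_q hF, ← Cfsg.Agent.LieClassical.HermBasic.herm_swap hF])
  have hS : IsSiegel v u (vec a 0) μ := by
    refine ⟨huu, ?_, ?_⟩
    · rw [hu, hherm, herm_def, herm_def]
      simp [zero_pow (show v ≠ 0 by omega)]
    · rw [hμ, hherm, herm_def (n := 2)]
      simp
  set t : SU (m + 2) F v := siegel hF u (vec a 0) μ hS with ht
  refine kill h (QuotientGroup.mk' _) hp.out hpc hr hrd hpr (sieg hF u huu) (isPGroup_sieg hF u huu) y ?_ ?_ t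
    ⟨_, _, hS, rfl⟩ ?_
  · -- the order
    show orderOf (QuotientGroup.mk y : PSU (m + 2) F v) = r
    apply Nat.dvd_antisymm
    · apply orderOf_dvd_of_pow_eq_one
      apply UnitRoots.psu_pow_eq_one
      refine ⟨1, ?_⟩
      rw [hy, hMpow, ← UnitRoots.mat_pow, ← hg, pow_orderOf_eq_one, one_smul]
      show (fromBlocks (1 : Matrix (Fin m) (Fin m) F) 0 0 1).submatrix e e = 1
      rw [fromBlocks_one, Matrix.submatrix_one_equiv]
    · obtain ⟨c, hc⟩ := UnitRoots.scalar_of_psu_pow hF (by omega) y (pow_orderOf_eq_one (QuotientGroup.mk y : PSU (m + 2) F v))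
      rw [hy, hMpow] at hc
      have hc' : fromBlocks (UnitRoots.mat g ^ orderOf (QuotientGroup.mk y : PSU (m + 2) F v)) 0 0
          (1 : Matrix (Fin 2) (Fin 2) F) = c • 1 := by
        have h4 := congrArg (fun M => M.submatrix e.symm e.symm) hc
        have h5 : (c • (1 : Matrix (Fin (m + 2)) (Fin (m + 2)) F)).submatrix e.symm e.symm = c • 1 := by
          rw [Matrix.submatrix_smul, Pi.smul_apply, Pi.smul_apply, Matrix.submatrix_one_equiv]
        simp only [h5, Matrix.submatrix_submatrix, Equiv.self_comp_symm, Matrix.submatrix_id_id] at h4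
        exact h4
      obtain ⟨h1, h2⟩ := fromBlocks_eq_smul hc'
      have hc1 : c = 1 := by
        have := congrFun (congrFun h2 0) 0
        simpa using this.symm
      rw [hc1, one_smul, ← UnitRoots.mat_pow] at h1
      have h3 : g ^ orderOf (QuotientGroup.mk y : PSU (m + 2) F v) = 1 := Subtype.ext (Subtype.ext h1)
      rw [← hg]
      exact orderOf_dvd_of_pow_eq_one h3
  · -- conjugation
    rintro _ ⟨x, μ', hS', rfl⟩
    refine ⟨act y x, μ', ?_, ?_⟩
    · have := hS'.map y
      rwa [hyu] at this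
    · rw [Cfsg.Agent.LieClassical.HermSiegel.conj_siegel]
      exact Cfsg.Agent.LieClassical.HermSiegel.siegel_congr hF _ _ hyu rfl rfl
  · -- not commuting
    intro heq
    obtain ⟨c, hc⟩ := scalar_of_mk_eq hF (by omega) (g := t * y) (h := y * t) heq.symm
    have hvecs : ∀ z, act (y * t) z = c • act (t * y) z := by
      intro z
      show UnitRoots.mat (y * t) *ᵥ z = c • (UnitRoots.mat (t * y) *ᵥ z)
      rw [hc, Matrix.smul_mulVec]
    have htu : act t u = u := Cfsg.Agent.LieClassical.HermSiegel.act_siegel_self hF hS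
    have hu1 : u (e.symm (Sum.inr 0)) = 1 := by simp [hu, vec]
    have hc1 : c = 1 := by
      have h1 := hvecs u
      rw [Cfsg.Agent.LieClassical.HermSiegel.act_mul, Cfsg.Agent.LieClassical.HermSiegel.act_mul, htu, hyu, htu] at h1
      have h2 := congrFun h1 (e.symm (Sum.inr 0))
      rw [Pi.smul_apply, hu1, smul_eq_mul, mul_one] at h2
      exact h2.symm
    set z : Fin (m + 2) → F := vec 0 ![1, 0] with hz
    have hyz : act y z = z := by rw [hz, hact, Matrix.mulVec_zero]
    have hzu : hermForm (m + 2) F v z u = 1 := by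
      rw [hz, hu, hherm, herm_def, herm_def, Fin.sum_univ_two]
      simp
    have h1 := hvecs z
    rw [Cfsg.Agent.LieClassical.HermSiegel.act_mul, Cfsg.Agent.LieClassical.HermSiegel.act_mul, hyz, hc1, one_smul, ht,
      Cfsg.Agent.LieClassical.HermSiegel.act_siegel, hzu, one_smul,
      Cfsg.Agent.LieClassical.HermSiegel.act_add, Cfsg.Agent.LieClassical.HermSiegel.act_add,
      Cfsg.Agent.LieClassical.HermSiegel.act_smul, hyz, hyu, hact, add_assoc, add_assoc] at h1
    have h2 := add_right_cancel (b := (μ * 1 - hermForm (m + 2) F v z (vec a 0)) • u) (add_left_cancel h1)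
    apply ha
    funext i
    have h3 := congrFun h2 (e.symm (Sum.inl i))
    simpa [vec] using h3

end

end Cfsg.Agent.H127.Six
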