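import Cfsg.Agent.H127.Six.Eig
import Cfsg.Agent.H127.Six.NoFrobB
import Cfsg.Agent.H126.Six.Num

/-!
# BLOCK 6, the row `PSU_n(v)`, `n ≥ 4`: numbers (helper127)

* `L25u` : the order of `-v` modulo 25 is at most `n`: `n = 5` and `5` divides `v + 1` exactly once;
* `lt_of_unipU` : the exponent of the unipotent elements;
* `num_CU`, `num_DU` : size arguments;
* `class_dvd` : an element order whose prime divisors have one class.
-/

set_option autoImplicit false
set_option linter.unusedSectionVars false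
set_option linter.unusedVariables false

namespace Cfsg.Agent.H127.Six

open Matrix Cfsg Cfsg.Agent.H72.AdjPSU Cfsg.Agent.H376.Six Cfsg.Agent.H60.Six5 Cfsg.Agent.H126.P4
  Cfsg.Agent.ClassicalGeometry.GUBasic Cfsg.Agent.H127

theorem nu_pos' {v m : ℕ} (hm : 0 < m) (h : Nat.Coprime v m) : 1 ≤ nu v m := by
  rw [nu]
  apply orderOf_pos_iff.2
  rw [isOfFinOrder_iff_pow_eq_one]
  refine ⟨2 * Nat.totient m, by have := Nat.totient_pos.2 hm; omega, ?_⟩
  have h1 : v ^ Nat.totient m ≡ 1 [MOD m] := Nat.ModEq.pow_totient h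
  have h2 : ((v ^ Nat.totient m : ℕ) : ZMod m) = ((1 : ℕ) : ZMod m) := (ZMod.natCast_eq_natCast_iff _ _ _).2 h1
  push_cast at h2
  rw [pow_mul, neg_sq, ← pow_mul, mul_comm, pow_mul, h2, one_pow]

theorem nu_five {v : ℕ} (h5 : 5 ∣ v + 1) : nu v 25 ∣ 5 := by
  rw [nu, orderOf_dvd_iff_pow_eq_one]
  have key : ∀ a : ZMod 25, a.val % 5 = 4 → (-a) ^ 5 = 1 := by decide +kernel
  apply key
  rw [show (v : ZMod 25).val = v % 25 from ZMod.val_natCast _ _]
  omega

theorem T_four (v : ℕ) : T v 4 = v ^ 4 - 1 := by rw [T, if_pos (by decide)]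

theorem T_five (v : ℕ) : T v 5 = v ^ 5 + 1 := by rw [T, if_neg (by decide)]

theorem T_le {v i : ℕ} : T v i ≤ v ^ i + 1 := by rw [T]; split_ifs <;> omega

theorem le_T {v i : ℕ} : v ^ i ≤ T v i + 1 := by rw [T]; split_ifs <;> omega

variable {n v : ℕ} {F : Type*} [Field F] [Fintype F]

/-- **the order of `-v` modulo 25 is at most `n`** -/
theorem L25u (hF : Fintype.card F = v ^ 2) (hn : 4 ≤ n) (h5 : ¬ 5 ∣ v)
    (hub : ∀ x : PSU n F v, 25 ∣ orderOf x → orderOf x = 25) (h25 : nu v 25 ≤ n) :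
    n = 5 ∧ 5 ∣ v + 1 ∧ ¬ 25 ∣ v + 1 := by
  have hv := two_le hF
  have hcop : Nat.Coprime v 25 := by
    have h1 : Nat.Coprime v 5 := ((Nat.Prime.coprime_iff_not_dvd Nat.prime_five).2 h5).symm
    have := Nat.Coprime.pow_right 2 h1
    norm_num at this
    exact this
  have hpos := nu_pos' (by norm_num : 0 < 25) hcop
  set e := nu v 25 with he
  have hT : ∀ i, 25 ∣ T v i ↔ e ∣ i := fun i => dvd_T (by omega)
  set g := Nat.gcd n (v + 1) with hg
  have hgv : g ∣ v + 1 := Nat.gcd_dvd_right _ _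
  have hgle : g ≤ v + 1 := Nat.le_of_dvd (by omega) hgv
  have hg0 : 0 < g := Nat.gcd_pos_of_pos_right _ (by omega)
  by_cases h2 : e + 2 ≤ n
  · exfalso
    obtain ⟨a, ha2, han, ha25⟩ : ∃ a, 2 ≤ a ∧ a + 2 ≤ n ∧ 25 ∣ T v a := by
      rcases Nat.lt_or_ge e 2 with h1 | h1
      · exact ⟨2, le_rfl, by omega, (hT 2).2 (by rw [show e = 1 by omega]; exact one_dvd _)⟩
      · exact ⟨e, h1, h2, (hT e).2 dvd_rfl⟩
    obtain ⟨z, hz⟩ := torusU (F := F) (n := n) hF (a := a) (by omega) han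
    have h1 := hub z (by rw [hz]; exact ha25)
    rw [hz] at h1
    have h3 : 4 ≤ v ^ a := by
      calc 4 = 2 ^ 2 := by norm_num
        _ ≤ v ^ 2 := Nat.pow_le_pow_left hv 2
        _ ≤ v ^ a := Nat.pow_le_pow_right (by omega) ha2
    rw [T] at h1
    split_ifs at h1 with hev
    · have h4 : v ^ 2 ∣ 26 := by
        rw [show 26 = v ^ a by omega]
        exact pow_dvd_pow v ha2
      have h6 : v ≤ 5 := by
        have := Nat.le_of_dvd (by norm_num) h4
        nlinarith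
      interval_cases v <;> norm_num at h4
    · have h4 : v ^ 2 ∣ 24 := by
        rw [show 24 = v ^ a by omega]
        exact pow_dvd_pow v ha2
      have h6 : v ≤ 4 := by
        have := Nat.le_of_dvd (by norm_num) h4
        nlinarith
      interval_cases v
      · have h7 : 3 ∣ 2 ^ a := by
          rw [show 2 ^ a = 24 by omega]; norm_num
        have := Nat.prime_three.dvd_of_dvd_pow h7
        omega
      · norm_num at h4
      · norm_num at h4
  by_cases h3 : e + 1 = n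
  · exfalso
    obtain ⟨z, hz⟩ := torusU' (F := F) (n := n) hF (a := e) (by omega) h3 (by omega)
    rw [← hg] at hz
    have hgd : g ∣ T v e := hgv.trans (add_one_dvd_T (by omega))
    have hg5 : ¬ 5 ∣ g := by
      intro h
      have h1 := h.trans hgv
      have h4 := Nat.le_of_dvd (by norm_num) (nu_five h1)
      have h6 : 5 ∣ n := h.trans (Nat.gcd_dvd_left _ _)
      have h7 : e ∣ 5 := nu_five h1
      rcases (Nat.dvd_prime Nat.prime_five).1 h7 with h8 | h8 <;> omega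
    obtain ⟨N, hN⟩ := hgd
    rw [hN, Nat.mul_div_cancel_left _ hg0] at hz
    have hTe := (hT e).2 dvd_rfl
    have h1 : 25 ∣ N := by
      rw [hN] at hTe
      have h2 : Nat.Coprime (5 ^ 2) g := Nat.Coprime.pow_left 2 ((Nat.Prime.coprime_iff_not_dvd (by norm_num)).2 hg5)
      norm_num at h2
      exact h2.dvd_of_dvd_mul_left hTe
    have h2 := hub z (by rw [hz]; exact h1)
    rw [hz] at h2
    subst h2
    have h4 : v ^ e ≤ 25 * (v + 1) + 1 := by
      have h6 := le_T (v := v) (i := e)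
      rw [hN] at h6
      have h7 : g * 25 ≤ (v + 1) * 25 := Nat.mul_le_mul_right _ hgle
      omega
    have h6 : v ^ (e - 1) ≤ 38 := by
      by_contra hcon
      rw [not_le] at hcon
      have h7 : 39 * v ≤ v ^ (e - 1) * v := Nat.mul_le_mul_right _ hcon
      rw [← pow_succ, show e - 1 + 1 = e by omega] at h7
      omega
    have h7 : v ^ 2 ≤ v ^ (e - 1) := Nat.pow_le_pow_right (by omega) (by omega)
    have h8 : v ≤ 6 := by nlinarith
    have h9 : 2 ^ (e - 1) ≤ v ^ (e - 1) := Nat.pow_le_pow_left hv _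
    have h10 : e ≤ 6 := by
      by_contra hcon
      have h11 : 2 ^ 6 ≤ 2 ^ (e - 1) := Nat.pow_le_pow_right (by norm_num) (by omega)
      norm_num at h11
      omega
    have h11 : 3 ≤ e := by omega
    clear_value e
    clear hpos hT hN hz hub h25 h2 h3 hg hgv hgle hg0 hg5 hcop h1 h9
    interval_cases v <;> interval_cases e <;> first
      | omega
      | exact absurd hTe (by decide)
  · have h4 : e = n := by omega
    obtain ⟨z, hz⟩ := torusN (F := F) (n := n) hF (by omega)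
    rw [← hg] at hz
    by_cases h6 : 5 ∣ v + 1
    · have h7 : e ∣ 5 := nu_five h6
      have h8 : n = 5 := by
        rcases (Nat.dvd_prime Nat.prime_five).1 h7 with h8 | h8 <;> omega
      refine ⟨h8, h6, fun h9 => ?_⟩
      have h10 : e = 1 := H72.AdjPSU.nu_eq_one h9
      omega
    · exfalso
      have hgd : (v + 1) * g ∣ T v n := dvd_geomU (by omega)
      obtain ⟨N, hN⟩ := hgd
      have h0 : 0 < (v + 1) * g := Nat.mul_pos (by omega) hg0
      rw [hN, Nat.mul_div_cancel_left _ h0] at hz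
      have hg5 : ¬ 5 ∣ (v + 1) * g := by
        intro h
        rcases (Nat.Prime.dvd_mul (by norm_num)).1 h with h1 | h1
        · exact h6 h1
        · exact h6 (h1.trans hgv)
      have hTn := (hT n).2 (by rw [h4])
      have h1 : 25 ∣ N := by
        rw [hN] at hTn
        have h2 : Nat.Coprime (5 ^ 2) ((v + 1) * g) :=
          Nat.Coprime.pow_left 2 ((Nat.Prime.coprime_iff_not_dvd (by norm_num)).2 hg5)
        norm_num at h2
        exact h2.dvd_of_dvd_mul_left hTn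
      have h2' := hub z (by rw [hz]; exact h1)
      rw [hz] at h2'
      subst h2'
      have h7 : v ^ n ≤ 25 * (v + 1) ^ 2 + 1 := by
        have h8 := le_T (v := v) (i := n)
        rw [hN] at h8
        have h9 : (v + 1) * g * 25 ≤ (v + 1) * (v + 1) * 25 :=
          Nat.mul_le_mul_right _ (Nat.mul_le_mul_left _ hgle)
        have h10 : (v + 1) * (v + 1) * 25 = 25 * (v + 1) ^ 2 := by ring
        omega
      have h8 : v ^ (n - 2) ≤ 56 := by
        by_contra hcon
        rw [not_le] at hcon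
        have h9 : 57 * v ^ 2 ≤ v ^ (n - 2) * v ^ 2 := Nat.mul_le_mul_right _ hcon
        rw [← pow_add, show n - 2 + 2 = n by omega] at h9
        obtain ⟨w, rfl⟩ := Nat.exists_eq_add_of_le hv
        nlinarith
      have h9 : v ^ 2 ≤ v ^ (n - 2) := Nat.pow_le_pow_right (by omega) (by omega)
      have h10 : v ≤ 7 := by nlinarith
      have h11 : 2 ^ (n - 2) ≤ v ^ (n - 2) := Nat.pow_le_pow_left hv _
      have h12 : n ≤ 7 := by
        by_contra hcon
        have h11 : 2 ^ 6 ≤ 2 ^ (n - 2) := Nat.pow_le_pow_right (by norm_num) (by omega)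
        norm_num at h11
        omega
      clear_value e g
      clear hpos hT hN hz hub h25 hg hgv hgle hg0 hg5 hcop h1 h0 h11 hF he h2 h3 h4
      interval_cases v <;> interval_cases n <;> first
        | omega
        | exact absurd hTn (by decide)

/-- **the exponent of the unipotent elements** -/
theorem lt_of_unipU (hF : Fintype.card F = v ^ 2) (hn : 3 ≤ n) {p : ℕ} [hp : Fact p.Prime] [CharP F p]
    {x : PSU n F v} {k : ℕ} (hx : orderOf x = p ^ (k + 1)) : p ^ k < n := by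
  have hv := Cfsg.Agent.ClassicalGeometry.GUBasic.two_le hF
  by_contra hcon
  rw [not_lt] at hcon
  obtain ⟨i, hi, hi1⟩ := UnitRoots.exists_eq_pow hF p
  have hpv : p ∣ v := by rw [hi]; exact dvd_pow_self p (by omega)
  obtain ⟨g, hg, hg1⟩ := exists_lift' hF hn x (N := p ^ (k + 1)) (by rw [← hx]; exact pow_orderOf_eq_one x)
  set D := Nat.gcd n (v + 1) with hD
  have hpD : Nat.Coprime (p ^ (k + 1)) D := by
    apply Nat.Coprime.pow_left
    rw [Nat.Prime.coprime_iff_not_dvd hp.out]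
    intro h1
    have h2 := Nat.dvd_sub (h1.trans (Nat.gcd_dvd_right n (v + 1))) hpv
    rw [show v + 1 - v = 1 by omega] at h2
    exact hp.out.one_lt.ne' (Nat.dvd_one.1 h2)
  set g' := g ^ D with hg'
  set M := UnitRoots.mat g' with hM
  have h1 : M ^ p ^ (k + 1) = 1 := by
    rw [hM, ← UnitRoots.mat_pow, hg', ← pow_mul, mul_comm, hg1]; rfl
  have : Nonempty (Fin n) := ⟨⟨0, by omega⟩⟩
  have h2 : IsNilpotent (M - 1) := by
    refine ⟨p ^ (k + 1), ?_⟩
    have := sub_pow_char_pow_of_commute (R := Matrix (Fin n) (Fin n) F) (p := p) (n := k + 1) (Commute.one_right M)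
    rw [this, one_pow, h1, sub_self]
  have h3 := Matrix.isNilpotent_charpoly_sub_pow_of_isNilpotent h2
  have h4 : (M - 1).charpoly = Polynomial.X ^ Fintype.card (Fin n) := sub_eq_zero.1 h3.eq_zero
  have h5 := Matrix.aeval_self_charpoly (M - 1)
  rw [h4, map_pow, Polynomial.aeval_X, Fintype.card_fin] at h5
  have h6 : (M - 1) ^ p ^ k = 0 := pow_eq_zero_of_le hcon h5
  have h7 : M ^ p ^ k = 1 := by
    have := sub_pow_char_pow_of_commute (R := Matrix (Fin n) (Fin n) F) (p := p) (n := k) (Commute.one_right M)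
    rw [one_pow, h6] at this
    exact (sub_eq_zero.1 this.symm)
  have h8 : x ^ (D * p ^ k) = 1 := by
    rw [← hg, ← QuotientGroup.mk_pow, pow_mul]
    have h9 : g' ^ p ^ k = 1 := by
      apply Subtype.ext
      apply Subtype.ext
      show UnitRoots.mat (g' ^ p ^ k) = 1
      rw [UnitRoots.mat_pow]; exact h7
    rw [← hg', h9, QuotientGroup.mk_one]
  have h9 := orderOf_dvd_of_pow_eq_one h8
  rw [hx] at h9
  have h10 := hpD.dvd_of_dvd_mul_left h9
  rw [Nat.pow_dvd_pow_iff_le_right hp.out.one_lt] at h10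
  omega

/-- **the prime divisors of an element order have one class `k`** -/
theorem class_dvd (hF : Fintype.card F = v ^ 2) (hn : 3 ≤ n) {x : PSU n F v} {k : ℕ} (hk : n < 2 * k)
    (h : ∀ r : ℕ, r.Prime → r ∣ orderOf x → ¬ r ∣ v ∧ ¬ r ∣ v + 1 ∧ nu v r = k) : orderOf x ∣ T v k := by
  have hv := Cfsg.Agent.ClassicalGeometry.GUBasic.two_le hF
  rw [Nat.dvd_iff_prime_pow_dvd_dvd]
  intro r j hr hj
  rcases Nat.eq_zero_or_pos j with rfl | hj0
  · rw [pow_zero]; exact one_dvd _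
  obtain ⟨i, rfl⟩ : ∃ i, j = i + 1 := ⟨j - 1, by omega⟩
  have hr1 : r ∣ orderOf x := (dvd_pow_self r (by omega)).trans hj
  obtain ⟨h1, h2, h3⟩ := h r hr hr1
  have hy : orderOf (x ^ (orderOf x / r ^ (i + 1))) = r ^ (i + 1) :=
    orderOf_pow_orderOf_div (orderOf_pos x).ne' hj
  have : Fact r.Prime := ⟨hr⟩
  have h4 : nu v (r ^ (i + 1)) ≤ n :=
    nu_le_of_order hF hn h1 (fun h5 => h2 (h5.trans (Nat.gcd_dvd_right _ _))) hy
  have hcop : Nat.Coprime v (r ^ (i + 1)) :=
    Nat.Coprime.pow_right _ ((Nat.Prime.coprime_iff_not_dvd hr).2 h1).symm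
  have h5 := nu_pos' (pow_pos hr.pos (i + 1)) hcop
  have h6 : r ^ (i + 1) ∣ T v (nu v (r ^ (i + 1))) := (dvd_T (by omega)).2 dvd_rfl
  have h7 : nu v r ∣ nu v (r ^ (i + 1)) := (dvd_T (by omega)).1 ((dvd_pow_self r (by omega)).trans h6)
  rw [h3] at h7
  obtain ⟨c, hc⟩ := h7
  have h8 : c = 1 := by
    rcases Nat.lt_or_ge c 2 with h9 | h9
    · interval_cases c
      · omega
      · rfl
    · have : k * 2 ≤ k * c := Nat.mul_le_mul_left _ h9
      omega
  rw [hc, h8, mul_one] at h6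
  exact h6

/-- the size argument for `n = 5` -/
theorem num_CU {q a N : ℕ} (hP : Pow5 q) (hv : 2 ≤ v) (h5 : 5 ∣ v + 1) (ha : a ∣ v ^ 2 + 1) (ha2 : Nat.Coprime 2 a)
    (hq : q ^ 2 ≤ 4 * a) (hN : N * ((v + 1) * 5) = v ^ 5 + 1) (hNq : 2 * N ≤ q ^ 3 + 1) (h4 : v ≠ 4) (h14 : v ≠ 14) :
    False := by
  have hq5 := hP.le
  have hN' : v ^ 4 + v ^ 2 + 1 = 5 * N + v ^ 3 + v := by
    have h3 : (v + 1) * (v ^ 4 + v ^ 2 + 1) = (v + 1) * (5 * N + v ^ 3 + v) := by
      have h6 : (v + 1) * (5 * N + v ^ 3 + v) = N * ((v + 1) * 5) + (v + 1) * (v ^ 3 + v) := by ring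
      rw [h6, hN]
      ring
    exact Nat.eq_of_mul_eq_mul_left (by omega : 0 < v + 1) h3
  have hv0 : 0 < v ^ 2 + 1 := by positivity
  rcases Nat.even_or_odd v with he | ho
  · have hale := Nat.le_of_dvd hv0 ha
    have hq' : q ^ 2 ≤ 4 * (v ^ 2 + 1) := hq.trans (Nat.mul_le_mul_left _ hale)
    obtain ⟨t, ht⟩ := he
    have hv24 : 24 ≤ v := by omega
    have h1 : q ≤ 2 * v + 1 := by
      by_contra hcon
      rw [not_le] at hcon
      have h2 : (2 * v + 2) ^ 2 ≤ q ^ 2 := Nat.pow_le_pow_left (by omega) 2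
      nlinarith
    have h2 : q ^ 3 ≤ (2 * v + 1) * (4 * (v ^ 2 + 1)) := by
      rw [pow_succ']
      exact Nat.mul_le_mul h1 hq'
    have h3 : 2 * (v ^ 4 + v ^ 2 + 1) ≤ 5 * ((2 * v + 1) * (4 * (v ^ 2 + 1)) + 1) + 2 * (v ^ 3 + v) := by omega
    obtain ⟨s, rfl⟩ := Nat.exists_eq_add_of_le hv24
    ring_nf at h3
    nlinarith [sq_nonneg s, pow_nonneg (Nat.zero_le s) 3, pow_nonneg (Nat.zero_le s) 4]
  · have hale : 2 * a ≤ v ^ 2 + 1 := by
      apply Nat.le_of_dvd hv0
      apply ha2.mul_dvd_of_dvd_of_dvd _ ha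
      obtain ⟨t, rfl⟩ := ho
      exact ⟨2 * t ^ 2 + 2 * t + 1, by ring⟩
    have hv9 : 9 ≤ v := by
      obtain ⟨t, ht⟩ := ho
      omega
    have hq' : q ^ 2 ≤ 2 * (v ^ 2 + 1) := by omega
    have h1 : 2 * q ≤ 3 * v := by
      by_contra hcon
      rw [not_le] at hcon
      have h2 : (3 * v + 1) ^ 2 ≤ (2 * q) ^ 2 := Nat.pow_le_pow_left (by omega) 2
      nlinarith
    have h2 : 2 * q ^ 3 ≤ (3 * v) * (2 * (v ^ 2 + 1)) := by
      calc 2 * q ^ 3 = (2 * q) * q ^ 2 := by ring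
        _ ≤ _ := Nat.mul_le_mul h1 hq'
    have h3 : 4 * (v ^ 4 + v ^ 2 + 1) ≤ 5 * ((3 * v) * (2 * (v ^ 2 + 1)) + 2) + 4 * (v ^ 3 + v) := by omega
    obtain ⟨s, rfl⟩ := Nat.exists_eq_add_of_le hv9
    ring_nf at h3
    nlinarith [sq_nonneg s, pow_nonneg (Nat.zero_le s) 3, pow_nonneg (Nat.zero_le s) 4]

/-- the size argument with a power of the characteristic -/
theorem num_DU {a N u k : ℕ} (hn : 4 ≤ n) (hu : 7 ≤ u) (huv : u ≤ v) (ha : a = u ^ (k + 1)) (hk : u ^ k < n)
    (hlow : v ^ (n - 2) ≤ 2 * N) (h4 : n = 4 → v ^ 3 ≤ 4 * N) (hN2 : N ^ 2 ≤ 16 * a ^ 3) : False := by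
  have hv3 : 0 < v ^ 3 := pow_pos (by omega) 3
  rcases Nat.eq_zero_or_pos k with rfl | hk0
  · have hau : a ≤ v := by rw [ha, zero_add, pow_one]; exact huv
    have hN3 : N ^ 2 ≤ 16 * v ^ 3 := hN2.trans (Nat.mul_le_mul_left _ (Nat.pow_le_pow_left hau 3))
    have h6 : 7 ^ 3 ≤ v ^ 3 := Nat.pow_le_pow_left (by omega) 3
    norm_num at h6
    rcases (by omega : n = 4 ∨ 5 ≤ n) with rfl | hn5
    · have h1 := h4 rfl
      have h2 : (v ^ 3) ^ 2 ≤ (4 * N) ^ 2 := Nat.pow_le_pow_left h1 2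
      have h3 : (4 * N) ^ 2 ≤ 256 * v ^ 3 := by
        calc (4 * N) ^ 2 = 16 * N ^ 2 := by ring
          _ ≤ 16 * (16 * v ^ 3) := Nat.mul_le_mul_left _ hN3
          _ = _ := by ring
      have h4 : v ^ 3 * v ^ 3 ≤ 256 * v ^ 3 := by
        rw [← pow_two]
        exact h2.trans h3
      have h5 := Nat.le_of_mul_le_mul_right h4 hv3
      omega
    · have h1 : v ^ 3 ≤ 2 * N := (Nat.pow_le_pow_right (by omega) (by omega)).trans hlow
      have h2 : (v ^ 3) ^ 2 ≤ 64 * v ^ 3 := by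
        calc (v ^ 3) ^ 2 ≤ (2 * N) ^ 2 := Nat.pow_le_pow_left h1 2
          _ = 4 * N ^ 2 := by ring
          _ ≤ 4 * (16 * v ^ 3) := Nat.mul_le_mul_left _ hN3
          _ = _ := by ring
      rw [pow_two] at h2
      have h5 := Nat.le_of_mul_le_mul_right h2 hv3
      omega
  · have h1 : u ≤ u ^ k := Nat.le_self_pow (by omega) u
    have hn8 : 8 ≤ n := by omega
    have h2 : a ≤ n * v := by
      rw [ha, pow_succ]
      exact Nat.mul_le_mul hk.le huv
    have h3 : N ^ 2 ≤ 16 * (n * v) ^ 3 := hN2.trans (Nat.mul_le_mul_left _ (Nat.pow_le_pow_left h2 3))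
    have h4 : (v ^ (n - 2)) ^ 2 ≤ 64 * (n * v) ^ 3 := by
      calc (v ^ (n - 2)) ^ 2 ≤ (2 * N) ^ 2 := Nat.pow_le_pow_left hlow 2
        _ = 4 * N ^ 2 := by ring
        _ ≤ 4 * (16 * (n * v) ^ 3) := Nat.mul_le_mul_left _ h3
        _ = _ := by ring
    have h5 : (v ^ (n - 2)) ^ 2 = v ^ (2 * n - 7) * v ^ 3 := by
      rw [← pow_mul, ← pow_add]
      congr 1
      omega
    have h6 : 64 * (n * v) ^ 3 = (64 * n ^ 3) * v ^ 3 := by ring
    rw [h5, h6] at h4
    have h7 := Nat.le_of_mul_le_mul_right h4 hv3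
    have h8 := H126.Six.three_dvd_aux hn8
    have h9 : 7 ^ (n + 1) ≤ v ^ (2 * n - 7) :=
      (Nat.pow_le_pow_right (by norm_num) (by omega)).trans (Nat.pow_le_pow_left (by omega) _)
    rw [pow_succ] at h9
    omega

end Cfsg.Agent.H127.Six
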