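import Cfsg.Agent.H127.Six.NumU
import Cfsg.Agent.H149.PGUGoal

/-!
# BLOCK 6, `q = 5 ^ m`, the row `PSU_n(v)`, `n ≥ 4` (helper127, task 2621 of helper376)
-/

set_option autoImplicit false
set_option linter.unusedSectionVars false
set_option linter.unusedVariables false

namespace Cfsg.Agent.H127.Six

open Matrix Cfsg Cfsg.Agent.H72.AdjPSU Cfsg.Agent.H376.Six Cfsg.Agent.H60.Six5 Cfsg.Agent.H126.P4
  Cfsg.Agent.ClassicalGeometry.GUBasic Cfsg.Agent.H127

variable {q n v : ℕ} {F : Type*} [Field F] [Fintype F]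

/-- **`n = 5`, `5 ∣ v + 1`** -/
theorem case_CU (hF : Fintype.card F = v ^ 2) (h : E5 q (PSU 5 F v)) (h5 : 5 ∣ v + 1)
    (h1 : ∃ x : PSU 5 F v, orderOf x = ap q) (h2 : ∃ x : PSU 5 F v, orderOf x = am q) : False := by
  classical
  have hP := pow5 h.pow
  have hq2 : 2 ≤ q := by have := hP.le; omega
  have hv1 := two_le hF
  have hv14 : v ≠ 14 := by
    rintro rfl
    obtain ⟨p, f, hp, hf, he⟩ := H149.PGU.exists_pf hF
    have e2 : 2 ∣ p := by
      have : 2 ∣ p ^ f := by rw [← he]; norm_num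
      exact Nat.prime_two.dvd_of_dvd_pow this
    have e7 : 7 ∣ p := by
      have : 7 ∣ p ^ f := by rw [← he]; norm_num
      exact (by norm_num : Nat.Prime 7).dvd_of_dvd_pow this
    have e3 := (Nat.prime_dvd_prime_iff_eq Nat.prime_two hp).1 e2
    have e4 := (Nat.prime_dvd_prime_iff_eq (by norm_num : Nat.Prime 7) hp).1 e7
    omega
  have hca : ap q ∣ Nat.card (PSU 5 F v) := by
    obtain ⟨x, hx⟩ := h1
    exact hx ▸ orderOf_dvd_natCard x
  have hcm : am q ∣ Nat.card (PSU 5 F v) := by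
    obtain ⟨x, hx⟩ := h2
    exact hx ▸ orderOf_dvd_natCard x
  have hub : ∀ {N : ℕ}, (∃ x : PSU 5 F v, orderOf x = N) → Ub q N := fun hN => h.ub' hN
  -- the classes
  have cls : ∀ r : ℕ, r.Prime → (r ∣ ap q ∨ r ∣ am q) → ¬ r ∣ v ∧ ¬ r ∣ v + 1 ∧ (nu v r = 4 ∨ nu v r = 5) := by
    intro r hr hd
    have hrq : ¬ r ∣ q := by
      rcases hd with hd | hd
      · exact (ap_ne hq2 hr hd).2.2
      · exact (am_ne hq2 hr hd).2.2
    have hr5 : r ≠ 5 := by
      rintro rfl
      exact hrq hP.dvd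
    have hno : ¬ ∃ x : PSU 5 F v, orderOf x = r * 5 := by
      intro hx
      have hU := hub hx
      rcases hd with hd | hd
      · exact hP.not_dvd_A ((Dvd.intro_left r rfl).trans (dvd_A hP hr hd (Dvd.intro _ rfl) hU))
      · exact hP.not_dvd_B ((Dvd.intro_left r rfl).trans (dvd_B hP hr hd (Dvd.intro _ rfl) hU))
    have hw5 : wU v 5 = 2 := by
      rw [wU, if_pos (Or.inr h5)]
    have hw : 5 < wU v r + 2 := by
      by_contra hcon
      rw [not_lt, ← hw5] at hcon
      exact hno (adj_of_wU hF (by norm_num) hr (by norm_num) hr5 hcon)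
    rw [wU] at hw
    split_ifs at hw with h3
    · omega
    · rw [not_or] at h3
      have h4 := H72.AdjPSU.nu_le (F := F) (n := 5) hF (by norm_num) hr h3.1 (by
        rcases hd with hd | hd
        · exact hd.trans hca
        · exact hd.trans hcm)
      exact ⟨h3.1, h3.2, by omega⟩
  obtain ⟨z4, hz4⟩ := torusU' (F := F) (n := 5) hF (a := 4) (by norm_num) rfl (by norm_num)
  obtain ⟨z5, hz5⟩ := torusN (F := F) (n := 5) hF (by norm_num)
  have hg : Nat.gcd 5 (v + 1) = 5 := Nat.gcd_eq_left h5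
  have hz4' : orderOf z4 * 5 = T v 4 := by
    rw [hz4, hg, Nat.div_mul_cancel (h5.trans (add_one_dvd_T (by omega)))]
  have hz5' : orderOf z5 * ((v + 1) * 5) = T v 5 := by
    have h6 : (v + 1) * Nat.gcd 5 (v + 1) ∣ T v 5 := dvd_geomU (by omega)
    rw [hz5]
    rw [hg] at h6 ⊢
    exact Nat.div_mul_cancel h6
  have hne5 : ∀ r : ℕ, r.Prime → (r ∣ ap q ∨ r ∣ am q) → r ≠ 5 := by
    rintro r hr hd rfl
    rcases hd with hd | hd
    · exact (ap_ne hq2 hr hd).2.2 hP.dvd
    · exact (am_ne hq2 hr hd).2.2 hP.dvd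
  have in4 : ∀ r : ℕ, r.Prime → (r ∣ ap q ∨ r ∣ am q) → nu v r = 4 → r ∣ orderOf z4 := by
    intro r hr hd he
    have h3 : r ∣ T v 4 := (dvd_T (by omega)).2 (he ▸ dvd_rfl)
    rw [← hz4'] at h3
    rcases (Nat.Prime.dvd_mul hr).1 h3 with h4 | h4
    · exact h4
    · exact absurd ((Nat.prime_dvd_prime_iff_eq hr (by norm_num)).1 h4) (hne5 r hr hd)
  have in5 : ∀ r : ℕ, r.Prime → (r ∣ ap q ∨ r ∣ am q) → nu v r = 5 → r ∣ orderOf z5 := by
    intro r hr hd he
    have h3 : r ∣ T v 5 := (dvd_T (by omega)).2 (he ▸ dvd_rfl)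
    rw [← hz5'] at h3
    rcases (Nat.Prime.dvd_mul hr).1 h3 with h4 | h4
    · exact h4
    · rcases (Nat.Prime.dvd_mul hr).1 h4 with h6 | h6
      · exact absurd h6 (cls r hr hd).2.1
      · exact absurd ((Nat.prime_dvd_prime_iff_eq hr (by norm_num)).1 h6) (hne5 r hr hd)
  have hU4 := hub ⟨z4, rfl⟩
  have hU5 := hub ⟨z5, rfl⟩
  have hne : ∀ r s : ℕ, r.Prime → s.Prime → r ∣ ap q → s ∣ am q → nu v r ≠ nu v s := by
    intro r s hr hs hra hsm he
    rcases (cls r hr (Or.inl hra)).2.2 with h3 | h3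
    · have h4 := dvd_A hP hr hra (in4 r hr (Or.inl hra) h3) hU4
      exact not_dvd_A_of hP hs hsm ((in4 s hs (Or.inr hsm) (he.symm.trans h3)).trans h4)
    · have h4 := dvd_A hP hr hra (in5 r hr (Or.inl hra) h3) hU5
      exact not_dvd_A_of hP hs hsm ((in5 s hs (Or.inr hsm) (he.symm.trans h3)).trans h4)
  -- the odd number of class 4
  have fin4 : ∀ x : PSU 5 F v,
      (∀ r : ℕ, r.Prime → r ∣ orderOf x → ¬ r ∣ v ∧ ¬ r ∣ v + 1 ∧ nu v r = 4) → orderOf x ∣ v ^ 2 + 1 := by
    intro x hcl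
    have h3 := class_dvd hF (by norm_num) (k := 4) (by norm_num) hcl
    have h4 : v ^ 4 - 1 = (v ^ 2 + 1) * (v ^ 2 - 1) := by
      rw [show v ^ 4 = (v ^ 2) ^ 2 by ring, show ((v ^ 2) ^ 2 - 1) = (v ^ 2) ^ 2 - 1 ^ 2 by norm_num, Nat.sq_sub_sq]
    rw [T_four, h4] at h3
    have h5 : Nat.Coprime (orderOf x) (v ^ 2 - 1) := Nat.coprime_of_dvd fun r hr h6 h7 => by
      have h8 : r ∣ T v 2 := by rw [T, if_pos (by decide)]; exact h7
      have h9 := Nat.le_of_dvd (by norm_num) ((dvd_T (by omega)).1 h8)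
      have h10 := (hcl r hr h6).2.2
      omega
    exact h5.dvd_of_dvd_mul_right h3
  obtain ⟨r0, hr0, hr0d⟩ := exists_ap hP
  obtain ⟨s0, hs0, hs0d⟩ := exists_am hP
  have hA := hP.A
  have hB := hP.B
  have hA0 := hP.A_pos
  rw [T_five] at hz5'
  have v4 : ∀ a : ℕ, (a = ap q ∨ a = am q) → a ∣ v ^ 2 + 1 → q ^ 2 ≤ 4 * a → v ≠ 4 := by
    rintro a ha hda hqa rfl
    norm_num at hda
    have h3 := Nat.le_of_dvd (by norm_num) hda
    have h4 : q = 5 := by
      rcases hP.cases with h6 | h6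
      · exact h6
      · have : 25 ^ 2 ≤ q ^ 2 := Nat.pow_le_pow_left h6 2
        omega
    subst h4
    rcases ha with rfl | rfl
    · exact absurd hda (by decide)
    · exact absurd hda (by decide)
  rcases (cls r0 hr0 (Or.inl hr0d)).2.2 with h3 | h3
  · have h4 : nu v s0 = 5 := by
      have h5 := hne r0 s0 hr0 hs0 hr0d hs0d
      have h6 := (cls s0 hs0 (Or.inr hs0d)).2.2
      omega
    have h6 : ∀ r : ℕ, r.Prime → r ∣ ap q → ¬ r ∣ v ∧ ¬ r ∣ v + 1 ∧ nu v r = 4 := by
      intro r hr hrd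
      have h7 := cls r hr (Or.inl hrd)
      have h8 := hne r s0 hr hs0 hrd hs0d
      exact ⟨h7.1, h7.2.1, by omega⟩
    have h7 : ap q ∣ v ^ 2 + 1 := by
      obtain ⟨x, hx⟩ := h1
      rw [← hx] at h6 ⊢
      exact fin4 x h6
    have h8 := dvd_B hP hs0 hs0d (in5 s0 hs0 (Or.inr hs0d) h4) hU5
    have h9 := Nat.le_of_dvd (by omega) h8
    exact num_CU hP hv1 h5 h7 (ap_odd hq2) (H126.Six.sq_le_ap hq2) hz5' (by omega)
      (v4 _ (Or.inl rfl) h7 (H126.Six.sq_le_ap hq2)) hv14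
  · have h4 : nu v s0 = 4 := by
      have h5 := hne r0 s0 hr0 hs0 hr0d hs0d
      have h6 := (cls s0 hs0 (Or.inr hs0d)).2.2
      omega
    have h6 : ∀ r : ℕ, r.Prime → r ∣ am q → ¬ r ∣ v ∧ ¬ r ∣ v + 1 ∧ nu v r = 4 := by
      intro r hr hrd
      have h7 := cls r hr (Or.inr hrd)
      have h8 := hne r0 r hr0 hr hr0d hrd
      exact ⟨h7.1, h7.2.1, by omega⟩
    have h7 : am q ∣ v ^ 2 + 1 := by
      obtain ⟨x, hx⟩ := h2
      rw [← hx] at h6 ⊢
      exact fin4 x h6
    have h8 := dvd_A hP hr0 hr0d (in5 r0 hr0 (Or.inl hr0d) h3) hU5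
    have h9 := Nat.le_of_dvd (by omega) h8
    exact num_CU hP hv1 h5 h7 (am_odd hq2) (H126.Six.sq_le_am hq2) hz5' (by omega)
      (v4 _ (Or.inr rfl) h7 (H126.Six.sq_le_am hq2)) hv14

/-- **the case without Frobenius actions** -/
theorem case_DU (hF : Fintype.card F = v ^ 2) (h5 : ¬ 5 ∣ v) (hn : 4 ≤ n) (h : E5 q (PSU n F v))
    (h1 : ∃ x : PSU n F v, orderOf x = ap q) (h2 : ∃ x : PSU n F v, orderOf x = am q)
    (hNF : NoFrob 5 q (PSU n F v)) : False := by
  classical
  have hP := pow5 h.pow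
  have hq2 : 2 ≤ q := by have := hP.le; omega
  have hv1 := two_le hF
  have hca : ap q ∣ Nat.card (PSU n F v) := by
    obtain ⟨x, hx⟩ := h1
    exact hx ▸ orderOf_dvd_natCard x
  have hcm : am q ∣ Nat.card (PSU n F v) := by
    obtain ⟨x, hx⟩ := h2
    exact hx ▸ orderOf_dvd_natCard x
  obtain ⟨u, hu⟩ := CharP.exists F
  have hup : Fact u.Prime := ⟨CharP.char_is_prime F u⟩
  obtain ⟨f, hf, hf1⟩ := UnitRoots.exists_eq_pow hF u
  have hud : u ∣ v := by
    rw [hf]
    exact dvd_pow_self _ (by omega)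
  have hu5 : u ≠ 5 := by
    rintro rfl
    exact h5 hud
  have hu_of : ∀ r : ℕ, r.Prime → r ∣ v → r = u := by
    intro r hr hrd
    rw [hf] at hrd
    exact (Nat.prime_dvd_prime_iff_eq hr hup.out).1 (hr.dvd_of_dvd_pow hrd)
  -- the class is the odd one of `n - 1`, `n`
  have cls : ∀ r : ℕ, r.Prime → (r ∣ ap q ∨ r ∣ am q) → ¬ r ∣ v →
      ¬ r ∣ v + 1 ∧ n - 1 ≤ nu v r ∧ nu v r ≤ n ∧ nu v r % 2 = 1 := by
    intro r hr hd hrv
    have h4 := H72.AdjPSU.nu_le (F := F) (n := n) hF (by omega) hr hrv (by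
      rcases hd with hd | hd
      · exact hd.trans hca
      · exact hd.trans hcm)
    have hrd : r ∣ ap q * am q := by
      rcases hd with hd | hd
      · exact hd.mul_right _
      · exact hd.mul_left _
    have h6 := no_p1 hF hn (p := u) hNF hu5 hr hrd hrv
    have h7 : ¬ r ∣ v + 1 := by
      intro h7
      have h8 := H72.AdjPSU.nu_eq_one h7
      omega
    refine ⟨h7, by omega, h4, ?_⟩
    by_contra hcon
    have he : Even (nu v r) := by rw [Nat.even_iff]; omega
    have h8 := nu_even (q := v) (r := r) (by omega) he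
    obtain ⟨j, hj⟩ := he
    have hj' : nu v r = 2 * j := by omega
    rw [hj'] at h8
    exact h7 (no_siegel hF (by omega) (p := u) hNF hu5 hr hrd (j := j) (by omega) (by omega) h8)
  -- the torus
  obtain ⟨z, k0, D, hk0, hk1, hz, hD0, hD, hD2, hD4⟩ : ∃ (z : PSU n F v) (k0 D : ℕ), (n - 1 ≤ k0 ∧ k0 ≤ n) ∧
      k0 % 2 = 1 ∧ orderOf z * D = T v k0 ∧ 0 < D ∧ (∀ r : ℕ, r.Prime → r ∣ D → r ∣ v + 1) ∧
      D ≤ (v + 1) * (v + 1) ^ (k0 + 1 - n) ∧ (n = 4 → D ≤ 4) := by
    set g := Nat.gcd n (v + 1) with hg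
    have hgv : g ∣ v + 1 := Nat.gcd_dvd_right _ _
    have hgle : g ≤ v + 1 := Nat.le_of_dvd (by omega) hgv
    have hg0 : 0 < g := Nat.gcd_pos_of_pos_right _ (by omega)
    rcases Nat.even_or_odd n with he | ho
    · obtain ⟨z, hz⟩ := torusU' (F := F) (n := n) hF (a := n - 1) (by omega) (by omega) (by omega)
      have hgd : g ∣ T v (n - 1) := hgv.trans (add_one_dvd_T (by omega))
      refine ⟨z, n - 1, g, ⟨le_rfl, by omega⟩, ?_, ?_, hg0, fun r _ hrg => hrg.trans hgv, ?_, ?_⟩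
      · rw [Nat.even_iff] at he
        omega
      · rw [hz, ← hg, Nat.div_mul_cancel hgd]
      · rw [show n - 1 + 1 - n = 0 by omega, pow_zero, mul_one]
        exact hgle
      · intro h4
        rw [h4] at hg
        rw [hg]
        exact Nat.le_of_dvd (by norm_num) (Nat.gcd_dvd_left _ _)
    · obtain ⟨z, hz⟩ := torusN (F := F) (n := n) hF (by omega)
      have hgd : (v + 1) * g ∣ T v n := dvd_geomU (by omega)
      refine ⟨z, n, (v + 1) * g, ⟨by omega, le_rfl⟩, Nat.odd_iff.1 ho, ?_, Nat.mul_pos (by omega) hg0, ?_, ?_, ?_⟩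
      · rw [hz, ← hg, Nat.div_mul_cancel hgd]
      · intro r hr hrg
        rcases (Nat.Prime.dvd_mul hr).1 hrg with h3 | h3
        · exact h3
        · exact h3.trans hgv
      · rw [show n + 1 - n = 1 by omega, pow_one]
        exact Nat.mul_le_mul_left _ hgle
      · intro h4
        rw [h4] at ho
        exact absurd ho (by decide)
  have cls' : ∀ r : ℕ, r.Prime → (r ∣ ap q ∨ r ∣ am q) → ¬ r ∣ v → nu v r = k0 := by
    intro r hr hd hrv
    have h3 := cls r hr hd hrv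
    omega
  have inN : ∀ r : ℕ, r.Prime → (r ∣ ap q ∨ r ∣ am q) → ¬ r ∣ v → r ∣ orderOf z := by
    intro r hr hd hrv
    have h3 : r ∣ T v k0 := (dvd_T (by omega)).2 (cls' r hr hd hrv ▸ dvd_rfl)
    rw [← hz] at h3
    rcases (Nat.Prime.dvd_mul hr).1 h3 with h4 | h4
    · exact h4
    · exact absurd (hD r hr h4) (cls r hr hd hrv).1
  have hU := h.ub' ⟨z, rfl⟩
  have hA := hP.A
  have hB := hP.B
  have hA0 := hP.A_pos
  -- a power of the characteristic
  have upow : ∀ a : ℕ, 1 < a → (∃ x : PSU n F v, orderOf x = a) →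
      (∀ r : ℕ, r.Prime → r ∣ a → r ∣ v) → ∃ k, a = u ^ (k + 1) ∧ u ^ k < n := by
    intro a ha hx hr
    have h3 : a = u ^ a.primeFactorsList.length :=
      Nat.eq_prime_pow_of_unique_prime_dvd (by omega) fun {d} hd hda => hu_of d hd (hr d hd hda)
    obtain ⟨k, hk⟩ : ∃ k, a.primeFactorsList.length = k + 1 := by
      refine ⟨a.primeFactorsList.length - 1, ?_⟩
      rcases Nat.eq_zero_or_pos a.primeFactorsList.length with h4 | h4
      · rw [h4, pow_zero] at h3
        omega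
      · omega
    rw [hk] at h3
    obtain ⟨x, hx⟩ := hx
    exact ⟨k, h3, lt_of_unipU hF (by omega) (hx.trans h3)⟩
  have hu7 : ∀ r : ℕ, r.Prime → (r ∣ ap q ∨ r ∣ am q) → 7 ≤ r := by
    intro r hr hd
    have h3 : r ≠ 2 ∧ r ≠ 3 ∧ ¬ r ∣ q := by
      rcases hd with hd | hd
      · exact ap_ne hq2 hr hd
      · exact am_ne hq2 hr hd
    have h4 : r ≠ 5 := by
      rintro rfl
      exact h3.2.2 hP.dvd
    have h6 := hr.two_le
    have h7 : r ≠ 4 := by
      rintro rfl
      norm_num at hr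
    have h8 : r ≠ 6 := by
      rintro rfl
      norm_num at hr
    have h31 := h3.1
    have h32 := h3.2.1
    omega
  -- the size of the torus
  have size : 7 ≤ v → v ^ (n - 2) ≤ 2 * orderOf z ∧ (n = 4 → v ^ 3 ≤ 4 * orderOf z) := by
    intro hv7
    have hT : T v k0 = v ^ k0 + 1 := by
      rw [T, if_neg (by rw [Nat.even_iff]; omega)]
    rw [hT] at hz
    constructor
    · by_contra hcon
      rw [not_le] at hcon
      have h3 : 2 * (orderOf z * D) < v ^ (n - 2) * D := by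
        calc 2 * (orderOf z * D) = (2 * orderOf z) * D := by ring
          _ < v ^ (n - 2) * D := Nat.mul_lt_mul_of_pos_right hcon hD0
      rw [hz] at h3
      have h4 : D ≤ 2 * v ^ (k0 + 2 - n) := by
        rcases (by omega : k0 = n - 1 ∨ k0 = n) with h6 | h6
        · rw [show k0 + 1 - n = 0 by omega, pow_zero, mul_one] at hD2
          rw [show k0 + 2 - n = 1 by omega, pow_one]
          omega
        · rw [show k0 + 1 - n = 1 by omega, pow_one] at hD2
          rw [show k0 + 2 - n = 2 by omega]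
          nlinarith
      have h6 : v ^ (n - 2) * D ≤ 2 * v ^ k0 := by
        calc v ^ (n - 2) * D ≤ v ^ (n - 2) * (2 * v ^ (k0 + 2 - n)) := Nat.mul_le_mul_left _ h4
          _ = 2 * (v ^ (n - 2) * v ^ (k0 + 2 - n)) := by ring
          _ = 2 * v ^ k0 := by
            rw [← pow_add]
            congr 2
            omega
      omega
    · intro hn4
      have h3 := hD4 hn4
      have h4 : k0 = 3 := by omega
      rw [h4] at hz
      have h6 : orderOf z * D ≤ orderOf z * 4 := Nat.mul_le_mul_left _ h3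
      omega
  by_cases hex1 : ∃ r : ℕ, r.Prime ∧ r ∣ ap q ∧ ¬ r ∣ v
  · obtain ⟨r, hr, hrd, hrv⟩ := hex1
    have hNA := dvd_A hP hr hrd (inN r hr (Or.inl hrd) hrv) hU
    by_cases hex2 : ∃ s : ℕ, s.Prime ∧ s ∣ am q ∧ ¬ s ∣ v
    · obtain ⟨s, hs, hsd, hsv⟩ := hex2
      exact not_dvd_A_of hP hs hsd ((inN s hs (Or.inr hsd) hsv).trans hNA)
    · push Not at hex2
      obtain ⟨k, hk1, hk2⟩ := upow (am q) (by have := am_ge hP; omega) h2 hex2
      have hu7' : 7 ≤ u := hu7 u hup.out (Or.inr (by rw [hk1]; exact dvd_pow_self _ (by omega)))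
      have hNle := Nat.le_of_dvd hA0 hNA
      have huv := Nat.le_of_dvd (by omega) hud
      obtain ⟨s1, s2⟩ := size (by omega)
      exact num_DU hn hu7' huv hk1 hk2 s1 s2 (H126.Six.am_bound hP.le (by omega))
  · push Not at hex1
    obtain ⟨k, hk1, hk2⟩ := upow (ap q) (by have := ap_ge hP; omega) h1 hex1
    have hu7' : 7 ≤ u := hu7 u hup.out (Or.inl (by rw [hk1]; exact dvd_pow_self _ (by omega)))
    obtain ⟨s, hs, hsd⟩ := exists_am hP
    have hsv : ¬ s ∣ v := by
      intro hsv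
      have h3 := hu_of s hs hsv
      subst h3
      exact not_dvd_B_of hP hs (by rw [hk1]; exact dvd_pow_self _ (by omega)) (hsd.trans (am_dvd_half hq2 hP.two))
    have hNB := dvd_B hP hs hsd (inN s hs (Or.inr hsd) hsv) hU
    have hNle := Nat.le_of_dvd (by omega) hNB
    have huv := Nat.le_of_dvd (by omega) hud
    obtain ⟨s1, s2⟩ := size (by omega)
    exact num_DU hn hu7' huv hk1 hk2 s1 s2 (H126.Six.ap_bound hP.le (by omega))

/-- **Task 2621.** -/
theorem psu (hF : Fintype.card F = v ^ 2) (h5 : ¬ 5 ∣ v) (hn : 4 ≤ n) (h : E5 q (Cfsg.PSU n F v)) : False := by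
  classical
  have hP := pow5 h.pow
  have hv1 := two_le hF
  have hub : ∀ x : PSU n F v, 25 ∣ orderOf x → orderOf x = 25 :=
    fun x hx => eq_25 hP hx (h.ub' ⟨x, rfl⟩)
  rcases h.five with ⟨h1, h2, hNF | hO⟩ | ⟨x, hx⟩
  · exact case_DU hF h5 hn h h1 h2 hNF
  · obtain ⟨p, f, hp, hf, he⟩ := H149.PGU.exists_pf hF
    have := Fact.mk hp
    rw [H149.PGU.card_out_psu hf he hF (by omega) (by omega)] at hO
    have h3 : nu v 25 ≤ n := by
      rcases (Nat.Prime.dvd_mul (by norm_num)).1 hO with h3 | h3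
      · have h4 := h3.trans (Nat.gcd_dvd_left _ _)
        have h6 := h3.trans (Nat.gcd_dvd_right _ _)
        have h7 := Nat.le_of_dvd (by omega) h4
        exact (Nat.le_of_dvd (by norm_num) (nu_five h6)).trans h7
      · have h4 : 5 ∣ f := Nat.Coprime.dvd_of_dvd_mul_left (by norm_num : Nat.Coprime 5 2) h3
        obtain ⟨e, hfe⟩ := h4
        have h6 : Nat.Coprime p 25 := by
          have h7 : Nat.Coprime p 5 := by
            rw [Nat.Prime.coprime_iff_not_dvd hp, Nat.prime_dvd_prime_iff_eq hp (by norm_num)]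
            rintro rfl
            exact h5 (by rw [he]; exact dvd_pow_self _ (by omega))
          have := Nat.Coprime.pow_right 2 h7
          norm_num at this
          exact this
        have h7 : (p ^ e) ^ Nat.totient 25 ≡ 1 [MOD 25] := Nat.ModEq.pow_totient (h6.pow_left e)
        have h8 : Nat.totient 25 = 20 := by decide
        have h9 : v ^ 4 = (p ^ e) ^ 20 := by
          rw [he, ← pow_mul, ← pow_mul, hfe]
          congr 1
          ring
        rw [h8, ← h9] at h7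
        have h10 : 25 ∣ T v 4 := by
          rw [T_four]
          exact (Nat.modEq_iff_dvd' (Nat.one_le_pow _ _ (by omega))).1 h7.symm
        exact (Nat.le_of_dvd (by norm_num) ((dvd_T (by omega)).1 h10)).trans hn
    obtain ⟨rfl, h6, h7⟩ := L25u hF hn h5 hub h3
    exact case_CU hF h h6 h1 h2
  · have : Fact (Nat.Prime 5) := ⟨Nat.prime_five⟩
    have h3 : nu v 25 ≤ n := by
      by_cases hd : 5 ∣ Nat.gcd n (v + 1)
      · have h4 := hd.trans (Nat.gcd_dvd_left _ _)
        have h6 := hd.trans (Nat.gcd_dvd_right _ _)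
        have h7 := Nat.le_of_dvd (by omega) h4
        exact (Nat.le_of_dvd (by norm_num) (nu_five h6)).trans h7
      · have h4 := nu_le_of_order (n := n) hF (by omega) (x := x) (r := 5) (k := 1) h5 hd (by rw [hx]; norm_num)
        exact h4
    obtain ⟨rfl, h6, h7⟩ := L25u hF hn h5 hub h3
    exact no_25_five hF h6 h7 x hx

end Cfsg.Agent.H127.Six
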