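import Cfsg.Agent.H126.P4.PSU
import Cfsg.Agent.H60.SixBase
import Cfsg.Agent.H376.Six.Elim

/-!
# BLOCK 6, `PSU_n(v)`, `n ≥ 4`, `q = 5 ^ m`: tori and small facts (helper127)
-/

set_option autoImplicit false
set_option linter.unusedSectionVars false

namespace Cfsg.Agent.H127.Six

open Matrix Cfsg.Agent.H72.AdjPSU Cfsg.Agent.H103.UniBlock Cfsg.Agent.H186
  Cfsg.Agent.ClassicalGeometry.GUBasic Cfsg.Agent.H127 Cfsg.Agent.H126.P4

variable {F : Type*} [Field F] [Fintype F] {u n : ℕ}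

/-- The torus of rank `n`. -/
theorem torusN (hF : Fintype.card F = u ^ 2) (hn : 3 ≤ n) :
    ∃ z : Cfsg.PSU n F u, orderOf z = T u n / ((u + 1) * Nat.gcd n (u + 1)) := by
  have hq := two_le hF
  obtain ⟨A, hAu, hA⟩ := exists_uni hF (a := n) (by omega)
  set g := Nat.gcd n (u + 1) with hg
  have hgd : (u + 1) * g ∣ T u n := dvd_geomU (by omega)
  have hg0 : 0 < (u + 1) * g := Nat.mul_pos (by omega) (Nat.gcd_pos_of_pos_right _ (by omega))
  refine exists_order_of_index hF hn (Equiv.refl _) (A := (A : Matrix (Fin n) (Fin n) F) ^ (u + 1)) (uni_pow hF hAu _) ?_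
    (N := T u n / ((u + 1) * g)) ?_ _ dvd_rfl
  · rw [Matrix.det_pow, H72.AdjPSU.det_pow hF hAu]
  · intro k t hk
    rw [← pow_mul] at hk
    have h4 : (A : Matrix (Fin n) (Fin n) F).det ^ ((u + 1) * k) = t ^ n := by
      rw [← Matrix.det_pow, hk, Matrix.det_smul, Matrix.det_one, mul_one, Fintype.card_fin]
    have h5 : t ^ n = 1 := by
      rw [← h4, pow_mul, H72.AdjPSU.det_pow hF hAu, one_pow]
    have h6 : t ^ (u + 1) = 1 := by
      have : Nonempty (Fin n) := ⟨⟨0, by omega⟩⟩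
      refine scalar_pow (ι := Fin n) hF ?_
      rw [← hk]
      exact uni_pow hF hAu _
    have h7 : t ^ g = 1 := by
      rw [hg, ← orderOf_dvd_iff_pow_eq_one]
      exact Nat.dvd_gcd (orderOf_dvd_of_pow_eq_one h5) (orderOf_dvd_of_pow_eq_one h6)
    have h8 : A ^ ((u + 1) * k * g) = 1 := by
      apply Units.ext
      rw [Units.val_pow_eq_pow_val, pow_mul, hk, smul_pow, one_pow, h7, one_smul, Units.val_one]
    have h9 := orderOf_dvd_of_pow_eq_one h8
    rw [hA] at h9
    obtain ⟨m, hm⟩ := hgd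
    rw [hm, Nat.mul_div_cancel_left _ hg0]
    rw [hm, show (u + 1) * k * g = (u + 1) * g * k by ring] at h9
    exact Nat.dvd_of_mul_dvd_mul_left hg0 h9

end Cfsg.Agent.H127.Six
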